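import Cfsg.Agent.R01.FiFacts

/-!
# Combinatorics of a class of 3-transpositions for the reduction of S1735

`comb`: there are no commuting involutory permutations `a`, `b` of the class `D` with certain properties which
express that the fixed points of `a` and of `a b` in the group are fixed by `b`.
-/

set_option autoImplicit false

namespace Cfsg.Agent.StdFi22.Comb

open Cfsg Cfsg.Agent.R01.FiFusion

variable {C : Type*} [Group C]

theorem braid_of {x y : C} (hx : x * x = 1) (hy : y * y = 1) (h : (x * y) ^ 3 = 1) :
    x * y * x = y * x * y := by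
  have h1 : x * y * x * (y * x * y) = 1 := by
    rw [← h]; simp only [pow_succ, pow_zero, one_mul]; group
  have h2 : y * x * y * (y * x * y) = 1 := by
    calc y * x * y * (y * x * y) = y * x * (y * y) * x * y := by group
      _ = y * (x * x) * y := by rw [hy]; group
      _ = 1 := by rw [hx, mul_one, hy]
  have h3 := h1.trans h2.symm
  exact mul_right_cancel h3

/-- The `S4` configuration. -/
theorem s4 {x y u w : C} (hx : x * x = 1) (hy : y * y = 1) (hu : u * u = 1)
    (bxy : x * y * x = y * x * y) (bxu : x * u * x = u * x * u)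
    (h1 : x * y * x = u * w * u) (h2 : x * w * x = u * y * u) : x = u := by
  have ew : w = u * (x * y * x) * u := by
    rw [h1]
    calc w = (u * u) * w * (u * u) := by rw [hu]; group
      _ = _ := by group
  have e1 : u * (x * y * x) * u = x * (u * y * u) * x := by
    rw [← ew, ← h2]
    calc w = (x * x) * w * (x * x) := by rw [hx]; group
      _ = _ := by group
  have xi : x⁻¹ = x := inv_eq_of_mul_eq_one_left hx
  have yi : y⁻¹ = y := inv_eq_of_mul_eq_one_left hy
  have ui : u⁻¹ = u := inv_eq_of_mul_eq_one_left hu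
  obtain ⟨c, hc⟩ : ∃ c, c = u * x := ⟨_, rfl⟩
  have hci : c⁻¹ = x * u := by rw [hc, mul_inv_rev, xi, ui]
  have c3 : c * c = c⁻¹ := by
    rw [hci, hc]
    calc u * x * (u * x) = u * (x * u * x) := by group
      _ = u * (u * x * u) := by rw [bxu]
      _ = (u * u) * (x * u) := by group
      _ = x * u := by rw [hu, one_mul]
  have hy1 : c * y * c⁻¹ = c⁻¹ * y * c := by
    rw [hci, hc]
    calc u * x * y * (x * u) = u * (x * y * x) * u := by group
      _ = x * (u * y * u) * x := e1
      _ = x * u * y * (u * x) := by group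
  have hy2 : c⁻¹ * y = y * c⁻¹ := by
    rw [← c3]
    calc c * c * y = c * (c * y * c⁻¹) * c := by group
      _ = c * (c⁻¹ * y * c) * c := by rw [hy1]
      _ = y * (c * c) := by group
  have hy3 : y * c * y = c := by
    have : y * c = c * y := by
      calc y * c = c * (c⁻¹ * y) * c := by group
        _ = c * (y * c⁻¹) * c := by rw [hy2]
        _ = c * y := by group
    rw [this, mul_assoc, hy, mul_one]
  have hx3 : x * c * x = c⁻¹ := by
    rw [hci, hc]
    calc x * (u * x) * x = x * u * (x * x) := by group
      _ = x * u := by rw [hx, mul_one]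
  have hx3' : x * c⁻¹ * x = c := by
    rw [← hx3]
    calc x * (x * c * x) * x = (x * x) * c * (x * x) := by group
      _ = c := by rw [hx]; group
  have hy3' : y * c⁻¹ * y = c⁻¹ := by
    rw [← hy2, mul_assoc, hy, mul_one]
  have key : x * y * x * c * (x * y * x) = c := by
    calc x * y * x * c * (x * y * x) = x * (y * (x * c * x) * y) * x := by group
      _ = c := by rw [hx3, hy3', hx3']
  have key2 : y * x * y * c * (y * x * y) = c⁻¹ := by
    calc y * x * y * c * (y * x * y) = y * (x * (y * c * y) * x) * y := by group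
      _ = c⁻¹ := by rw [hy3, hx3, hy3']
  rw [bxy, key2] at key
  have h5 : c = 1 := by
    have h6 : c⁻¹ = c := key
    rw [h6] at c3
    exact mul_eq_left.1 c3
  rw [hc] at h5
  have h6 := eq_inv_of_mul_eq_one_right h5
  rw [ui] at h6
  exact h6

/-- The facts on the class `D`. -/
structure DF (D : Set C) : Prop where
  sq : ∀ x ∈ D, x * x = 1
  conj : ∀ x ∈ D, ∀ y ∈ D, x * y * x ∈ D
  three : ∀ x ∈ D, ∀ y ∈ D, x * y = y * x ∨ x * y * x = y * x * y
  uniq : ∀ a ∈ D, ∀ b ∈ D, ∀ c ∈ D, ∀ d ∈ D, a ≠ b → a * b = b * a → c * d = d * c →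
    a * b = c * d → c = a ∨ c = b
  config : ∀ a b c : C, Tri D a b c → ∃ x ∈ D, x * a = a * x ∧ x * b = b * x ∧ x * c ≠ c * x

/-- The properties of a map `a : D → D` relative to `b`. -/
structure Pr (D : Set C) (a b : C → C) (ev : Prop) : Prop where
  mem : ∀ d ∈ D, a d ∈ D
  inv : ∀ d ∈ D, a (a d) = d
  comm : ∀ d ∈ D, a (b d) = b (a d)
  conj : ∀ d ∈ D, ∀ e ∈ D, a (d * e * d) = a d * a e * a d
  one : ∀ d ∈ D, d * a d = a d * d → d ≠ a d → b d = d ∨ b d = a d
  ev2 : ev → ∀ d ∈ D, a d = d → b d = d
  ev3 : ev → ∀ d ∈ D, d * a d ≠ a d * d → b (d * a d * d) = d * a d * d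
  od4 : ¬ ev → ∀ c ∈ D, ∀ t ∈ D, a c = c → a t = t → b c * b t = c * t

/-- The properties of `b`. -/
structure Pb (D : Set C) (b : C → C) : Prop where
  mem : ∀ d ∈ D, b d ∈ D
  inv : ∀ d ∈ D, b (b d) = d
  conj : ∀ d ∈ D, ∀ e ∈ D, b (d * e * d) = b d * b e * b d
  five : ∀ c ∈ D, b c ≠ c → c * b c = b c * c →
    ∃ p ∈ D, Tri D c (b c) p ∧ b p ≠ p

variable {D : Set C} {a b : C → C} {ev : Prop}

theorem DF.sharp (hD : DF D) {x y : C} (hx : x ∈ D) (hy : y ∈ D) (h : x * y ≠ y * x) :
    (x * y * x) * x ≠ x * (x * y * x) := by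
  intro h1
  apply h
  have hxx := hD.sq x hx
  have h2 : x * y = (x * y * x) * x := by rw [mul_assoc, hxx, mul_one]
  have h3 : y * x = x * (x * y * x) := by
    calc y * x = (x * x) * y * x := by rw [hxx, one_mul]
      _ = _ := by group
  rw [h2, h1, ← h3]

section Pr

variable (hD : DF D) (ha : Pr D a b ev) (hb : Pb D b)
include hD ha hb

/-- `a` fixes `d * a d * d` when `d`, `a d` do not commute. -/
theorem Pr.fix_prod {d : C} (hd : d ∈ D) (h : d * a d ≠ a d * d) :
    a (d * a d * d) = d * a d * d := by
  rw [ha.conj d hd _ (ha.mem d hd), ha.inv d hd]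
  rcases hD.three d hd _ (ha.mem d hd) with h1 | h1
  · exact absurd h1 h
  · exact h1.symm

/-- Odd case: a fixed point `c` of `a` commutes with `b c`. -/
theorem Pr.fix_comm (hev : ¬ ev) {c : C} (hc : c ∈ D) (h : a c = c) : c * b c = b c * c := by
  have h1 : a (b c) = b c := by rw [ha.comm c hc, h]
  have h2 := ha.od4 hev c hc (b c) (hb.mem c hc) h h1
  rw [hb.inv c hc] at h2
  exact h2.symm

/-- Odd case: `a` has at most two fixed points if one of them is moved by `b`. -/
theorem Pr.fix_two (hev : ¬ ev) {c t : C} (hc : c ∈ D) (h : a c = c) (hcb : b c ≠ c) (ht : t ∈ D)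
    (hta : a t = t) : t = c ∨ t = b c := by
  have h1 := ha.od4 hev c hc t ht h hta
  have h2 := ha.fix_comm hD hb hev hc h
  have h3 := ha.fix_comm hD hb hev ht hta
  have hbc := hb.mem c hc
  have hbt := hb.mem t ht
  -- `b t * t = b c * c`
  have h4 : c * b c = b t * t := by
    have e1 : b t = b c * (c * t) := by
      rw [← h1, ← mul_assoc, hD.sq _ hbc, one_mul]
    rw [e1]
    calc c * b c = b c * c := h2
      _ = b c * c * (t * t) := by rw [hD.sq t ht, mul_one]
      _ = b c * (c * t) * t := by group
  rcases hD.uniq c hc (b c) hbc (b t) hbt t ht (fun h => hcb h.symm) h2 h3.symm h4 with h5 | h5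
  · right
    rw [← hb.inv t ht, h5]
  · left
    rw [← hb.inv t ht, h5, hb.inv c hc]

/-- A point moved by `b` to a noncommuting point is moved by `a` to a noncommuting point. -/
theorem Pr.moved {d : C} (hd : d ∈ D) (h : d * b d ≠ b d * d) : d * a d ≠ a d * d := by
  intro h1
  have hne : b d ≠ d := fun h2 => h (by rw [h2])
  by_cases h2 : a d = d
  · by_cases hev : ev
    · exact hne (ha.ev2 hev d hd h2)
    · exact h (ha.fix_comm hD hb hev hd h2)
  · rcases ha.one d hd h1 (fun h3 => h2 h3.symm) with h3 | h3
    · exact hne h3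
    · rw [h3] at h
      exact h h1

end Pr

/-- **The combinatorial core of FACT 1.** -/
theorem comb {a' : C → C} (hD : DF D) (ha : Pr D a b ev) (ha' : Pr D a' b ev) (hb : Pb D b)
    (hab : ∀ d ∈ D, a' d = a (b d)) {d : C} (hd : d ∈ D) (hdb : d * b d ≠ b d * d) : False := by
  -- the main step, symmetric in `a` and `a'`
  have main : ∀ a a' : C → C, Pr D a b ev → Pr D a' b ev → (∀ d ∈ D, a' d = a (b d)) →
      b (d * a d * d) ≠ d * a d * d → False := by
    intro a a' ha ha' hab hbe
    have hm := ha.moved hD hb hd hdb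
    have hev : ¬ ev := fun hev => hbe (ha.ev3 hev d hd hm)
    obtain ⟨c, hc⟩ : ∃ c, c = d * a d * d := ⟨_, rfl⟩
    have hcD : c ∈ D := by rw [hc]; exact hD.conj d hd _ (ha.mem d hd)
    have hac : a c = c := by rw [hc]; exact ha.fix_prod hD hb hd hm
    rw [← hc] at hbe
    have hcc := ha.fix_comm hD hb hev hcD hac
    have hfix : ∀ t ∈ D, a t = t → t = c ∨ t = b c := fun t ht h =>
      ha.fix_two hD hb hev hcD hac hbe ht h
    -- points commuting with `c` and `b c` moved by `b` are fixed by `a'`
    have hP : ∀ p, Tri D c (b c) p → b p ≠ p → a' p = p := by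
      intro p hp hpb
      have hpD := hp.mw
      have h1 : a p ≠ p := by
        intro h1
        rcases hfix p hpD h1 with h2 | h2
        · exact hp.xw h2.symm
        · exact hp.yw h2.symm
      have h2 : p * a p = a p * p := by
        by_contra h2
        have h3 := ha.fix_prod hD hb hpD h2
        have h4 := hD.sharp hpD (ha.mem p hpD) h2
        rcases hfix _ (hD.conj p hpD _ (ha.mem p hpD)) h3 with h5 | h5
        · rw [h5] at h4
          exact h4 hp.cxw
        · rw [h5] at h4
          exact h4 hp.cyw
      rcases ha.one p hpD h2 (fun h => h1 h.symm) with h3 | h3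
      · exact absurd h3 hpb
      · rw [hab p hpD, h3, ha.inv p hpD]
    obtain ⟨p, hpD, hp, hpb⟩ := hb.five c hcD hbe hcc
    have hap := hP p hp hpb
    have hpp := ha'.fix_comm hD hb hev hpD hap
    have hfix' : ∀ t ∈ D, a' t = t → t = p ∨ t = b p := fun t ht h =>
      ha'.fix_two hD hb hev hpD hap hpb ht h
    obtain ⟨q, hqD, hq1, hq2, hq3⟩ := hD.config c (b c) p hp
    -- every such `q` is fixed by `b`
    have hQ : ∀ q ∈ D, q * c = c * q → q * b c = b c * q → q * p ≠ p * q → b q = q := by
      intro q hqD hq1 hq2 hq3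
      by_contra hqb
      have hqc : c ≠ q := by
        rintro rfl
        exact hq3 hp.cxw
      have hqc' : b c ≠ q := by
        rintro rfl
        exact hq3 hp.cyw
      have h1 := hP q ⟨hp.mx, hp.my, hqD, hp.xy, hqc, hqc', hp.cxy, hq1.symm, hq2.symm⟩ hqb
      rcases hfix' q hqD h1 with h2 | h2
      · rw [h2] at hq3; exact hq3 rfl
      · rw [h2] at hq3; exact hq3 hpp.symm
    have h1 := hQ q hqD hq1 hq2 hq3
    -- `q p q`
    have hqq := hD.sq q hqD
    have h2 := hQ (q * p * q) (hD.conj q hqD p hpD)
      (by
        calc q * p * q * c = q * p * (q * c) := by group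
          _ = q * p * (c * q) := by rw [hq1]
          _ = q * (p * c) * q := by group
          _ = q * (c * p) * q := by rw [hp.cxw]
          _ = (q * c) * (p * q) := by group
          _ = (c * q) * (p * q) := by rw [hq1]
          _ = c * (q * p * q) := by group)
      (by
        calc q * p * q * b c = q * p * (q * b c) := by group
          _ = q * p * (b c * q) := by rw [hq2]
          _ = q * (p * b c) * q := by group
          _ = q * (b c * p) * q := by rw [hp.cyw]
          _ = (q * b c) * (p * q) := by group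
          _ = (b c * q) * (p * q) := by rw [hq2]
          _ = b c * (q * p * q) := by group)
      (by
        intro h3
        apply hq3
        have hpp' := hD.sq p hpD
        have hbr : q * p * q = p * q * p := by
          rcases hD.three q hqD p hpD with h4 | h4
          · exact absurd h4 hq3
          · exact h4
        rw [hbr] at h3
        calc q * p = (p * p) * q * p := by rw [hpp', one_mul]
          _ = p * (p * q * p) := by group
          _ = p * q * p * p := h3.symm
          _ = p * q * (p * p) := by group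
          _ = p * q := by rw [hpp', mul_one])
    rw [hb.conj q hqD p hpD, h1] at h2
    apply hpb
    have h3 : q * (q * b p * q) * q = q * (q * p * q) * q := by rw [h2]
    have h4 : ∀ r : C, q * (q * r * q) * q = r := by
      intro r
      calc q * (q * r * q) * q = (q * q) * r * (q * q) := by group
        _ = r := by rw [hqq]; group
    rwa [h4, h4] at h3
  have hba : ∀ d ∈ D, a d = a' (b d) := by
    intro d hd
    rw [hab _ (hb.mem d hd), hb.inv d hd]
  by_cases h1 : b (d * a d * d) = d * a d * d
  · by_cases h2 : b (d * a' d * d) = d * a' d * d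
    · -- the `S4` configuration
      have hbd := hb.mem d hd
      have hm := ha.moved hD hb hd hdb
      have e1 : a' d = b (a d) := by rw [hab d hd, ha.comm d hd]
      have bxy : d * a d * d = a d * d * a d := by
        rcases hD.three d hd _ (ha.mem d hd) with h4 | h4
        · exact absurd h4 hm
        · exact h4
      have bxu : d * b d * d = b d * d * b d := by
        rcases hD.three d hd _ hbd with h4 | h4
        · exact absurd h4 hdb
        · exact h4
      have h3 : d = b d := by
        refine s4 (w := a' d) (hD.sq d hd) (hD.sq _ (ha.mem d hd)) (hD.sq _ hbd) bxy bxu ?_ ?_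
        · rw [← h1, hb.conj d hd _ (ha.mem d hd), e1]
        · rw [← h2, hb.conj d hd _ (ha'.mem d hd), e1, hb.inv _ (ha.mem d hd)]
      exact hdb (by rw [← h3])
    · exact main a' a ha' ha hba h2
  · exact main a a' ha ha' hab h1

end Cfsg.Agent.StdFi22.Comb
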