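import Cfsg.Agent.R01.FiHexad

/-!
# Structures for the reduction of S1735

`TP T`: the properties of the class `T` of transpositions of `Fi22` which are used.
`Cov π z T D`: a perfect double cover `C` of `P` with a class `D` of lifts of `T`.
`Red z L φ T D`: the standing hypotheses in `G`.
-/

set_option autoImplicit false

namespace Cfsg.Agent.StdFi22

open Cfsg Cfsg.Agent.R01.Lifts Cfsg.Agent.R01.FiFusion Cfsg.Agent.R01.FiFacts Cfsg.Agent.R01.FiHexad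

/-- The properties of the class of transpositions of `Fi22` which are used. -/
structure TP {P : Type*} [Group P] (T : Set P) : Prop where
  tf : TFacts T
  three : ∀ x ∈ T, ∀ y ∈ T, x * y = y * x ∨ x * y * x = y * x * y
  pair : ∀ a ∈ T, ∀ b ∈ T, ∀ c ∈ T, a ≠ b → a * b = b * a → c * (a * b) = a * b * c →
    c * a = a * c ∧ c * b = b * c
  uniq : ∀ a ∈ T, ∀ b ∈ T, ∀ c ∈ T, ∀ d ∈ T, a ≠ b → a * b = b * a → c * d = d * c →
    a * b = c * d → c = a ∨ c = b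
  third : ∀ a ∈ T, ∀ b ∈ T, a ≠ b → a * b = b * a → ∃ c : P, Tri T a b c
  config : ∀ a b c : P, Tri T a b c → ∃ x ∈ T, x * a = a * x ∧ x * b = b * x ∧ x * c ≠ c * x
  fix : ∀ f : P, f * f = 1 → ∃ t ∈ T, f * t = t * f
  moved : ∀ f : P, f * f = 1 → f ≠ 1 → ∃ t ∈ T, t * (f * t * f⁻¹) ≠ (f * t * f⁻¹) * t
  five : ∀ a ∈ T, ∀ b ∈ T, a ≠ b → a * b = b * a → ∃ l : List P, (∀ p ∈ l, Tri T a b p) ∧
    (∀ p ∈ l, ∀ q ∈ l, p * q = q * p) ∧ l.prod = a
  hept : ∀ x y w : P, Tri T x y w → ∃ l : List P, Odd l.length ∧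
    (∀ a ∈ l, a ∈ T ∧ a * x = x * a ∧ a * y = y * a ∧ a * w = w * a) ∧
    (∀ a ∈ l, ∀ b ∈ l, a * b = b * a) ∧ l.prod = 1
  noroot : ∀ x y w : P, Tri T x y w → ∀ h : P,
    (∀ a ∈ T, ∀ b ∈ T, a ≠ b → a * b = b * a → a * x = x * a → a * y = y * a → a * w = w * a →
      b * x = x * b → b * y = y * b → b * w = w * b → h * a ≠ a * h → h * b ≠ b * h →
      h * a * h⁻¹ = b) → h * h ≠ x ∧ h * h ≠ x * y ∧ h * h ≠ x * y * w

/-- A perfect double cover `C` of `P` with a class `D` of lifts of `T`. -/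
structure Cov {C P : Type*} [Group C] [Group P] (π : C →* P) (z : C) (T : Set P) (D : Set C) :
    Prop where
  lift : Lifted π z T D
  perf : commutator C = ⊤
  hns : ∀ c : C, c * c ≠ z
  /-- every automorphism fixing `z` is even or odd -/
  cases : ∀ α : C ≃* C, α z = z → (∀ d ∈ D, α d ∈ D) ∨ (∀ d ∈ D, α d * z ∈ D)
  /-- Lemma V -/
  inner : ∀ α : C ≃* C, (∀ d ∈ D, α d ∈ D) → ∃ c : C, ∀ x, α x = c * x * c⁻¹

/-- The standing hypotheses: `L` is a double cover of `P` with centre `⟨z⟩` in `G`. -/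
structure Red {G P : Type*} [Group G] [Group P] (z : G) (L : Subgroup G) (φ : L →* P) (T : Set P)
    (D : Set L) : Prop where
  zL : z ∈ L
  cov : Cov φ (⟨z, zL⟩ : L) T D
  /-- `C(z)` normalises `L` -/
  norm : ∀ g : G, g * z = z * g → ∀ x ∈ L, g * x * g⁻¹ ∈ L
  /-- tight embedding of `C(L)` -/
  tight : ∀ v : G, (∀ l ∈ L, v * l = l * v) → v * v = 1 → v ≠ 1 → ∀ g : G,
    (∀ l ∈ L, g * v * g⁻¹ * l = l * (g * v * g⁻¹)) → g * z = z * g
  /-- `O(C(z)) = 1` -/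
  core : ∀ N : Subgroup G, (∀ n ∈ N, n * z = z * n) →
    (∀ g : G, g * z = z * g → ∀ n ∈ N, g * n * g⁻¹ ∈ N) → Odd (Nat.card N) → N = ⊥
  /-- `z` is not isolated -/
  exz : ∃ g : G, g * z * g⁻¹ ≠ z ∧ g * z * g⁻¹ * z = z * (g * z * g⁻¹)

end Cfsg.Agent.StdFi22
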