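import Cfsg.Agent.StdFi22.Rigid
import Cfsg.Agent.StdFi22.Comb
import Cfsg.Agent.StdFi22.Defs
import Cfsg.Agent.R01.KeyFi22All
import Cfsg.Agent.R01.FiLocal

/-!
# Facts on the transpositions of `Fi22` used in the reduction of S1735
-/

set_option autoImplicit false
set_option linter.unusedSectionVars false

namespace Cfsg.Agent.StdFi22.TLev

open Cfsg Cfsg.Agent.R01 Cfsg.Agent.R01.FiFusion Cfsg.Agent.R01.FiFacts
open Cfsg.Agent.R01.Label Cfsg.Agent.R01.InvForm Cfsg.Agent.R01.Start Cfsg.Agent.R01.Lifts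
open Cfsg.Agent.LieClassical.HermBasic

variable {P : Type*} [Group P] [Finite P] {F : Type*} [Field F] [Fintype F]
  {hF : Fintype.card F = 2 ^ 2} {T : Set P}

/-- The standing hypotheses. -/
structure Bas (hF : Fintype.card F = 2 ^ 2) (T : Set P) : Prop where
  cls : IsThreeTranspositionClass T
  base : KeyFi22.Base P hF T

theorem Bas.tf (B : Bas hF T) : TFacts T := FiLocal.tFacts_of_loc B.cls B.base.loc

/-! ### Elementary facts -/

theorem Bas.sq (B : Bas hF T) {x : P} (hx : x ∈ T) : x * x = 1 := B.tf.sq x hx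

theorem Bas.ne_one (B : Bas hF T) {x : P} (hx : x ∈ T) : x ≠ 1 := B.tf.ne x hx

theorem Bas.conjT (B : Bas hF T) (g : P) {x : P} (hx : x ∈ T) : g * x * g⁻¹ ∈ T := B.tf.conj g x hx

theorem Bas.inv_self (B : Bas hF T) {x : P} (hx : x ∈ T) : x⁻¹ = x := inv_eq_of_mul_eq_one_left (B.sq hx)

theorem Bas.three (B : Bas hF T) {x y : P} (hx : x ∈ T) (hy : y ∈ T) : x * y = y * x ∨ x * y * x = y * x * y := by
  rcases B.cls.1.2 x hx y hy with h | h
  · left
    have h2 : (x * y)⁻¹ = x * y := inv_eq_of_mul_eq_one_left (by rw [← pow_two, h])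
    rw [mul_inv_rev, B.inv_self hx, B.inv_self hy] at h2
    exact h2.symm
  · right
    exact Comb.braid_of (B.sq hx) (B.sq hy) h

/-- An element commuting with a product of two commuting members commutes with both. -/
theorem Bas.comm_of_pair (B : Bas hF T) {a b c : P} (ha : a ∈ T) (hb : b ∈ T) (hc : c ∈ T) (hab : a ≠ b)
    (cab : a * b = b * a) (h : c * (a * b) = a * b * c) : c * a = a * c ∧ c * b = b * c := by
  have haa := B.sq ha
  have hbb := B.sq hb
  have hcc := B.sq hc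
  have h1 : c * (a * b) * c = a * b := by rw [h, mul_assoc, hcc, mul_one]
  have h2 : (c * a * c) * (c * b * c) = a * b := by
    rw [← h1]
    calc (c * a * c) * (c * b * c) = c * a * (c * c) * b * c := by group
      _ = c * (a * b) * c := by rw [hcc]; group
  rcases B.three hc ha with k1 | k1
  · refine ⟨k1, ?_⟩
    have k2 : c * a * c = a := by rw [k1, mul_assoc, hcc, mul_one]
    rw [k2] at h2
    have k3 : c * b * c = b := mul_left_cancel h2
    calc c * b = c * b * (c * c) := by rw [hcc, mul_one]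
      _ = (c * b * c) * c := by group
      _ = b * c := by rw [k3]
  · rcases B.three hc hb with k2 | k2
    · refine ⟨?_, k2⟩
      have k3 : c * b * c = b := by rw [k2, mul_assoc, hcc, mul_one]
      rw [k3] at h2
      have k4 : c * a * c = a := mul_right_cancel h2
      calc c * a = c * a * (c * c) := by rw [hcc, mul_one]
        _ = (c * a * c) * c := by group
        _ = a * c := by rw [k4]
    · exfalso
      rw [k1, k2] at h2
      -- `a c a b c b = a b`
      have h3 : c * (a * b) * c = 1 := by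
        have : a * (c * (a * b) * c) * b = a * 1 * b := by
          rw [mul_one]
          calc a * (c * (a * b) * c) * b = (a * c * a) * (b * c * b) := by group
            _ = a * b := h2
        exact mul_left_cancel (mul_right_cancel this)
      rw [h1] at h3
      apply hab
      rw [← B.inv_self hb]
      exact eq_inv_of_mul_eq_one_left h3

/-- Unique factorisation. -/
theorem Bas.uniq (B : Bas hF T) {a b c d : P} (ha : a ∈ T) (hb : b ∈ T) (hc : c ∈ T) (hd : d ∈ T) (hab : a ≠ b)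
    (cab : a * b = b * a) (ccd : c * d = d * c) (h : a * b = c * d) : c = a ∨ c = b := by
  by_contra hcon
  push Not at hcon
  obtain ⟨k1, k2⟩ := B.comm_of_pair ha hb hc hab cab (by
    rw [h]
    calc c * (c * d) = c * (d * c) := by rw [ccd]
      _ = c * d * c := by group)
  have h1 : a * b * c = d := by
    rw [h, ccd, mul_assoc, B.sq hc, mul_one]
  apply B.tf.prod a b c ⟨ha, hb, hc, hab, fun h => hcon.1 h.symm, fun h => hcon.2 h.symm, cab,
    k1.symm, k2.symm⟩
  rw [h1]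
  exact hd

/-- Noncommuting members. -/
theorem Bas.fix (B : Bas hF T) {f : P} (hf : f * f = 1) : ∃ t ∈ T, f * t = t * f :=
  B.base.exists_commute hf

theorem Bas.sharp (B : Bas hF T) {x y : P} (hx : x ∈ T) (hy : y ∈ T) (h : x * y ≠ y * x) :
    (x * y * x) * x ≠ x * (x * y * x) := by
  intro h1
  apply h
  have hxx := B.sq hx
  have h2 : x * y = (x * y * x) * x := by rw [mul_assoc, hxx, mul_one]
  have h3 : y * x = x * (x * y * x) := by
    calc y * x = (x * x) * y * x := by rw [hxx, one_mul]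
      _ = _ := by group
  rw [h2, h1, ← h3]

theorem Bas.third (B : Bas hF T) {a b : P} (ha : a ∈ T) (hb : b ∈ T) (hab : a ≠ b) (cab : a * b = b * a) :
    ∃ c : P, Tri T a b c := by
  obtain ⟨c, hc, n1, n2, c1, c2⟩ := B.base.toLoc.exists_third ha hb cab hab
  exact ⟨c, ha, hb, hc, hab, n1.symm, n2.symm, cab, c1, c2⟩

theorem Bas.config (B : Bas hF T) {a b c : P} (h : Tri T a b c) :
    ∃ x ∈ T, x * a = a * x ∧ x * b = b * x ∧ x * c ≠ c * x := by
  obtain ⟨⟨x, hx, h1, h2, h3⟩, -⟩ := B.base.toLoc.config h.mx h.mw h.my h.cxw h.cxy h.cyw.symm h.xw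
    h.xy h.yw.symm
  exact ⟨x, hx, h1, h3, h2⟩

theorem Bas.exists_tri (B : Bas hF T) {a : P} (ha : a ∈ T) : ∃ b c : P, Tri T a b c := by
  obtain ⟨x, y, w, -, h, -⟩ := B.tf.four
  obtain ⟨g, rfl⟩ := B.tf.trans x h.mx a ha
  have hinj : ∀ {u v : P}, u ≠ v → g * u * g⁻¹ ≠ g * v * g⁻¹ := fun h h' =>
    h (mul_left_cancel (mul_right_cancel h'))
  have hc : ∀ {u v : P}, u * v = v * u → g * u * g⁻¹ * (g * v * g⁻¹) = g * v * g⁻¹ * (g * u * g⁻¹) := by
    intro u v h
    calc g * u * g⁻¹ * (g * v * g⁻¹) = g * (u * v) * g⁻¹ := by group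
      _ = g * (v * u) * g⁻¹ := by rw [h]
      _ = _ := by group
  exact ⟨g * y * g⁻¹, g * w * g⁻¹, B.conjT g h.mx, B.conjT g h.my, B.conjT g h.mw, hinj h.xy, hinj h.xw,
    hinj h.yw, hc h.cxy, hc h.cxw, hc h.cyw⟩

theorem Bas.tri_conj (B : Bas hF T) (g : P) {a b c : P} (h : Tri T a b c) :
    Tri T (g * a * g⁻¹) (g * b * g⁻¹) (g * c * g⁻¹) := by
  have hinj : ∀ {u v : P}, u ≠ v → g * u * g⁻¹ ≠ g * v * g⁻¹ := fun h h' =>
    h (mul_left_cancel (mul_right_cancel h'))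
  have hc : ∀ {u v : P}, u * v = v * u → g * u * g⁻¹ * (g * v * g⁻¹) = g * v * g⁻¹ * (g * u * g⁻¹) := by
    intro u v h
    calc g * u * g⁻¹ * (g * v * g⁻¹) = g * (u * v) * g⁻¹ := by group
      _ = g * (v * u) * g⁻¹ := by rw [h]
      _ = _ := by group
  exact ⟨B.conjT g h.mx, B.conjT g h.my, B.conjT g h.mw, hinj h.xy, hinj h.xw,
    hinj h.yw, hc h.cxy, hc h.cxw, hc h.cyw⟩

theorem tri_perm {a b c : P} (h : Tri T a b c) : Tri T b c a :=
  ⟨h.my, h.mw, h.mx, h.yw, h.xy.symm, h.xw.symm, h.cyw, h.cxy.symm, h.cxw.symm⟩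

/-- An involution maps some member to a noncommuting one. -/
theorem Bas.moved (B : Bas hF T) {f : P} (hf : f * f = 1) (h1 : f ≠ 1) :
    ∃ t ∈ T, t * (f * t * f⁻¹) ≠ (f * t * f⁻¹) * t := by
  have key : ∀ a b : P, a ∈ T → ∀ x ∈ T, x * a ≠ a * x → b * b = 1 → x * b = b * x →
      f = a * b → x * (f * x * f⁻¹) ≠ (f * x * f⁻¹) * x := by
    intro a b ha x hx hxa hbb hxb hfab h2
    have e1 : f * x * f⁻¹ = a * x * a := by
      rw [hfab, mul_inv_rev, B.inv_self ha]
      calc a * b * x * (b⁻¹ * a) = a * (b * x) * b⁻¹ * a := by group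
        _ = a * (x * b) * b⁻¹ * a := by rw [hxb]
        _ = a * x * a := by group
    rw [e1] at h2
    have h3 : a * x * a = x * a * x := by
      rcases B.three ha hx with h3 | h3
      · exact absurd h3.symm hxa
      · exact h3
    rw [h3] at h2
    exact B.sharp hx ha hxa h2.symm
  rcases B.tf.inv f hf (B.fix hf) with h | h | ⟨a, ha, b, hb, hab, hc, h⟩ | ⟨a, b, c, ht, h⟩
  · exact absurd h h1
  · obtain ⟨b, c, ht⟩ := B.exists_tri h
    obtain ⟨x, hx, -, -, hxa⟩ := B.config (tri_perm ht)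
    exact ⟨x, hx, key f 1 h x hx hxa (mul_one 1) (by rw [mul_one, one_mul]) (mul_one f).symm⟩
  · obtain ⟨c, ht⟩ := B.third ha hb hab hc
    obtain ⟨x, hx, hxb, -, hxa⟩ := B.config (tri_perm ht)
    exact ⟨x, hx, key a b ha x hx hxa (B.sq hb) hxb h⟩
  · obtain ⟨x, hx, hxb, hxc, hxa⟩ := B.config (tri_perm ht)
    refine ⟨x, hx, key a (b * c) ht.mx x hx hxa ?_ ?_ (by rw [h]; group)⟩
    · calc b * c * (b * c) = b * (c * b) * c := by group
        _ = b * (b * c) * c := by rw [ht.cyw]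
        _ = (b * b) * (c * c) := by group
        _ = 1 := by rw [B.sq ht.my, B.sq ht.mw, mul_one]
    · calc x * (b * c) = (x * b) * c := by group
        _ = b * (x * c) := by rw [hxb]; group
        _ = b * c * x := by rw [hxc]; group


/-! ### Facts from the labelling -/

/-- A labelled member with a frame. -/
theorem Bas.exists_label (B : Bas hF T) : ∃ (q : P) (π : Subgroup.centralizer ({q} : Set P) →*
      PSU 6 F 2) (lift : (Fin 6 → F) → Subgroup.centralizer ({q} : Set P)) (u v w : Fin 6 → F),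
    q ∈ T ∧ Lab hF π (zel q) (zel q) lift ∧
    (∀ x : Subgroup.centralizer ({q} : Set P), (x : P) ∈ T ↔ x = zel q ∨ x ∈ Dset lift) ∧
    Fr3 u v w := by
  obtain ⟨x, y, w, -, h, -⟩ := B.tf.four
  obtain ⟨π, lift, L, hiff⟩ := B.base.loc x h.mx
  obtain ⟨u, v, w, hf, -⟩ := Assembly2.hasBaer L
  exact ⟨x, π, lift, u, v, w, h.mx, L, hiff, hf⟩

theorem conj_comm {G : Type*} [Group G] (g : G) {a b : G} (h : a * b = b * a) :
    g * a * g⁻¹ * (g * b * g⁻¹) = g * b * g⁻¹ * (g * a * g⁻¹) := by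
  calc g * a * g⁻¹ * (g * b * g⁻¹) = g * (a * b) * g⁻¹ := by group
    _ = g * (b * a) * g⁻¹ := by rw [h]
    _ = _ := by group

/-- The elements `h` with `h ^ 2` an involution of `⟨x, y, w⟩` move some commuting pair in a bad way. -/
theorem Bas.noroot (B : Bas hF T) {x y w : P} (ht : Tri T x y w) {h : P}
    (hS : ∀ a ∈ T, ∀ b ∈ T, a ≠ b → a * b = b * a → a * x = x * a → a * y = y * a →
      a * w = w * a → b * x = x * b → b * y = y * b → b * w = w * b → h * a ≠ a * h →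
      h * b ≠ b * h → h * a * h⁻¹ = b) : h * h ≠ x ∧ h * h ≠ x * y ∧ h * h ≠ x * y * w := by
  obtain ⟨q, π, lift, u, v, w', hq, L, hiff, hf⟩ := B.exists_label
  have mem : ∀ x : Fin 6 → F, x ≠ 0 → hermForm 6 F 2 x x = 0 → (lift x : P) ∈ T :=
    fun x h0 hx => (hiff _).2 (Or.inr (Lab.mem_D h0 hx))
  have neq : ∀ x : Fin 6 → F, x ≠ 0 → hermForm 6 F 2 x x = 0 → (lift x : P) ≠ q := by
    intro x h0 hx h1
    have h2 : zel q = lift x := Subtype.ext h1.symm
    apply L.z_notMem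
    rw [h2]
    exact Lab.mem_D h0 hx
  obtain ⟨n1, n2, n3⟩ := AllOfLab.Fr3.lift_ne L hf
  obtain ⟨c1, c2, c3⟩ := AllOfLab.Fr3.lift_comm L hf
  have hT : Tri T (lift u : P) (lift v : P) (lift w' : P) :=
    ⟨mem _ hf.u_ne hf.uu, mem _ hf.v_ne hf.vv, mem _ hf.w_ne hf.ww,
      fun h => n1 (Subtype.ext h), fun h => n2 (Subtype.ext h), fun h => n3 (Subtype.ext h),
      AllOfLab.comm_coe.1 c1, AllOfLab.comm_coe.1 c2, AllOfLab.comm_coe.1 c3⟩
  obtain ⟨g, g1, g2, g3⟩ := B.tf.tri _ _ _ _ _ _ ht hT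
  have back : ∀ a b : P, g⁻¹ * a * g⁻¹⁻¹ * b = b * (g⁻¹ * a * g⁻¹⁻¹) ↔
      a * (g * b * g⁻¹) = g * b * g⁻¹ * a := by
    intro a b
    constructor
    · intro h1
      calc a * (g * b * g⁻¹) = g * (g⁻¹ * a * g⁻¹⁻¹ * b) * g⁻¹ := by group
        _ = g * (b * (g⁻¹ * a * g⁻¹⁻¹)) * g⁻¹ := by rw [h1]
        _ = _ := by group
    · intro h1
      calc g⁻¹ * a * g⁻¹⁻¹ * b = g⁻¹ * (a * (g * b * g⁻¹)) * g := by group
        _ = g⁻¹ * (g * b * g⁻¹ * a) * g := by rw [h1]
        _ = _ := by group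
  have hS' : ∀ t₁ ∈ T, ∀ t₂ ∈ T, t₁ ≠ t₂ → t₁ * t₂ = t₂ * t₁ →
      t₁ * (lift u : P) = (lift u : P) * t₁ → t₁ * (lift v : P) = (lift v : P) * t₁ →
      t₁ * (lift w' : P) = (lift w' : P) * t₁ → t₂ * (lift u : P) = (lift u : P) * t₂ →
      t₂ * (lift v : P) = (lift v : P) * t₂ → t₂ * (lift w' : P) = (lift w' : P) * t₂ →
      (g * h * g⁻¹) * t₁ ≠ t₁ * (g * h * g⁻¹) → (g * h * g⁻¹) * t₂ ≠ t₂ * (g * h * g⁻¹) →
      (g * h * g⁻¹) * t₁ * (g * h * g⁻¹)⁻¹ = t₂ := by
    intro t₁ h1 t₂ h2 hne hc k1 k2 k3 k4 k5 k6 m1 m2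
    have e := hS (g⁻¹ * t₁ * g⁻¹⁻¹) (B.conjT _ h1) (g⁻¹ * t₂ * g⁻¹⁻¹) (B.conjT _ h2)
      (fun hh => hne (mul_left_cancel (mul_right_cancel hh))) (conj_comm _ hc)
      ((back _ _).2 (by rw [g1]; exact k1)) ((back _ _).2 (by rw [g2]; exact k2))
      ((back _ _).2 (by rw [g3]; exact k3)) ((back _ _).2 (by rw [g1]; exact k4))
      ((back _ _).2 (by rw [g2]; exact k5)) ((back _ _).2 (by rw [g3]; exact k6))
      (fun hh => m1 ((back _ _).1 hh.symm).symm) (fun hh => m2 ((back _ _).1 hh.symm).symm)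
    calc (g * h * g⁻¹) * t₁ * (g * h * g⁻¹)⁻¹ = g * (h * (g⁻¹ * t₁ * g⁻¹⁻¹) * h⁻¹) * g⁻¹ := by group
      _ = g * (g⁻¹ * t₂ * g⁻¹⁻¹) * g⁻¹ := by rw [e]
      _ = t₂ := by group
  have key := Rigid.rigid_at L hq hiff hf hS'
  have hsq : (g * h * g⁻¹) * (g * h * g⁻¹) = g * (h * h) * g⁻¹ := by group
  rw [hsq] at key
  refine ⟨?_, ?_, ?_⟩
  · intro h1
    rw [h1, g1] at key
    rcases key with h2 | h2
    · exact B.ne_one (mem _ hf.u_ne hf.uu) h2
    · exact neq _ hf.u_ne hf.uu h2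
  · intro h1
    have e : g * (h * h) * g⁻¹ = (lift u : P) * (lift v : P) := by
      rw [h1, ← g1, ← g2]; group
    rw [e] at key
    rcases key with h2 | h2
    · apply hT.xy
      rw [eq_comm, ← B.inv_self hT.mx]
      exact eq_inv_of_mul_eq_one_right h2
    · exact B.tf.two _ hT.mx _ hT.my hT.xy hT.cxy (by rw [h2]; exact hq)
  · intro h1
    have e : g * (h * h) * g⁻¹ = (lift u : P) * (lift v : P) * (lift w' : P) := by
      rw [h1, ← g1, ← g2, ← g3]; group
    rw [e] at key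
    rcases key with h2 | h2
    · apply B.tf.two _ hT.mx _ hT.my hT.xy hT.cxy
      rw [mul_eq_one_iff_eq_inv.1 h2, B.inv_self hT.mw]
      exact hT.mw
    · exact B.tf.prod _ _ _ hT (by rw [h2]; exact hq)

end Cfsg.Agent.StdFi22.TLev
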