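import Cfsg.Agent.StdFi22.TLev

/-!
# The relations `five` and `hept` between the transpositions of `Fi22`
-/

set_option autoImplicit false
set_option linter.unusedSectionVars false
set_option linter.unusedVariables false

namespace Cfsg.Agent.StdFi22.TLev

open Cfsg Cfsg.Agent.R01 Cfsg.Agent.R01.FiFusion Cfsg.Agent.R01.FiFacts
open Cfsg.Agent.R01.Label Cfsg.Agent.R01.InvForm Cfsg.Agent.R01.Start Cfsg.Agent.R01.Lifts
open Cfsg.Agent.LieClassical.HermBasic Cfsg.Agent.SporadicStructure.UnitTwo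

variable {P : Type*} [Group P] [Finite P] {F : Type*} [Field F] [Fintype F]
  {hF : Fintype.card F = 2 ^ 2} {T : Set P}

section

variable {q : P} {π : Subgroup.centralizer ({q} : Set P) →* PSU 6 F 2}
  {lift : (Fin 6 → F) → Subgroup.centralizer ({q} : Set P)}

theorem lift_mem (hiff : ∀ x : Subgroup.centralizer ({q} : Set P), (x : P) ∈ T ↔
      x = zel q ∨ x ∈ Dset lift) {x : Fin 6 → F} (h0 : x ≠ 0) (hx : hermForm 6 F 2 x x = 0) :
    (lift x : P) ∈ T := (hiff _).2 (Or.inr (Lab.mem_D h0 hx))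

theorem lift_ne_q (L : Lab hF π (zel q) (zel q) lift) {x : Fin 6 → F} (h0 : x ≠ 0)
    (hx : hermForm 6 F 2 x x = 0) : q ≠ (lift x : P) := by
  intro h1
  have h2 : zel q = lift x := Subtype.ext h1
  apply L.z_notMem
  rw [h2]
  exact Lab.mem_D h0 hx

theorem lift_com (L : Lab hF π (zel q) (zel q) lift) {x y : Fin 6 → F} (hx0 : x ≠ 0) (hy0 : y ≠ 0)
    (hx : hermForm 6 F 2 x x = 0) (hy : hermForm 6 F 2 y y = 0) (hxy : hermForm 6 F 2 x y = 0) :
    (lift x : P) * lift y = (lift y : P) * lift x :=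
  AllOfLab.comm_coe.1 ((L.commute_iff hx hy hx0 hy0).2 hxy)

theorem tri_frame (L : Lab hF π (zel q) (zel q) lift)
    (hiff : ∀ x : Subgroup.centralizer ({q} : Set P), (x : P) ∈ T ↔ x = zel q ∨ x ∈ Dset lift)
    {u v w : Fin 6 → F} (hf : Fr3 u v w) : Tri T (lift u : P) (lift v : P) (lift w : P) := by
  obtain ⟨n1, n2, n3⟩ := AllOfLab.Fr3.lift_ne L hf
  obtain ⟨c1, c2, c3⟩ := AllOfLab.Fr3.lift_comm L hf
  exact ⟨lift_mem hiff hf.u_ne hf.uu, lift_mem hiff hf.v_ne hf.vv, lift_mem hiff hf.w_ne hf.ww,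
      fun h => n1 (Subtype.ext h), fun h => n2 (Subtype.ext h), fun h => n3 (Subtype.ext h),
      AllOfLab.comm_coe.1 c1, AllOfLab.comm_coe.1 c2, AllOfLab.comm_coe.1 c3⟩

end

theorem conj_list_prod {G : Type*} [Group G] (g : G) (l : List G) :
    (l.map fun x => g * x * g⁻¹).prod = g * l.prod * g⁻¹ := by
  induction l with
  | nil => simp
  | cons a l ih => rw [List.map_cons, List.prod_cons, ih, List.prod_cons]; group

/-- The relation of length seven. -/
theorem Bas.hept (B : Bas hF T) {x y w : P} (ht : Tri T x y w) : ∃ l : List P, Odd l.length ∧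
    (∀ a ∈ l, a ∈ T ∧ a * x = x * a ∧ a * y = y * a ∧ a * w = w * a) ∧
    (∀ a ∈ l, ∀ b ∈ l, a * b = b * a) ∧ l.prod = 1 := by
  obtain ⟨q, π, lift, -, -, -, hq, L, hiff, -⟩ := B.exists_label
  obtain ⟨u, v, w', hf, hb⟩ := Assembly2.hasBaer L
  have hT := tri_frame L hiff hf
  obtain ⟨g, g1, g2, g3⟩ := B.tf.tri _ _ _ _ _ _ hT ht
  have hmem : ∀ p ∈ AllOfLab.seven u v w', hermForm 6 F 2 p p = 0 := fun p hp =>
    AllOfLab.seven_perp hF hf p hp p hp
  have hcom : ∀ p ∈ AllOfLab.seven u v w', ∀ p' ∈ AllOfLab.seven u v w',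
      (lift p : P) * lift p' = (lift p' : P) * lift p := fun p hp p' hp' =>
    lift_com L (AllOfLab.seven_ne_zero hf p hp) (AllOfLab.seven_ne_zero hf p' hp') (hmem p hp)
      (hmem p' hp') (AllOfLab.seven_perp hF hf p hp p' hp')
  have hu : u ∈ AllOfLab.seven u v w' := by simp [AllOfLab.seven]
  have hv : v ∈ AllOfLab.seven u v w' := by simp [AllOfLab.seven]
  have hw : w' ∈ AllOfLab.seven u v w' := by simp [AllOfLab.seven]
  refine ⟨((AllOfLab.seven u v w').map fun p => (lift p : P)).map fun p => g * p * g⁻¹, ?_, ?_, ?_,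
    ?_⟩
  · rw [List.length_map, List.length_map]
    exact ⟨3, rfl⟩
  · intro a ha
    rw [List.map_map, List.mem_map] at ha
    obtain ⟨p, hp, rfl⟩ := ha
    refine ⟨B.conjT g (lift_mem hiff (AllOfLab.seven_ne_zero hf p hp) (hmem p hp)), ?_, ?_, ?_⟩
    · rw [← g1]; exact conj_comm g (hcom p hp u hu)
    · rw [← g2]; exact conj_comm g (hcom p hp v hv)
    · rw [← g3]; exact conj_comm g (hcom p hp w' hw)
  · intro a ha b hb'
    rw [List.map_map, List.mem_map] at ha hb'
    obtain ⟨p, hp, rfl⟩ := ha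
    obtain ⟨p', hp', rfl⟩ := hb'
    exact conj_comm g (hcom p hp p' hp')
  · rw [conj_list_prod]
    have h1 : ((AllOfLab.seven u v w').map fun p => (lift p : P)).prod = 1 := by
      have h2 := congrArg Subtype.val hb
      simp only [AllOfLab.seven, List.map_cons, List.map_nil, List.prod_cons, List.prod_nil, mul_one]
      simp only [Subgroup.coe_mul, Subgroup.coe_one] at h2
      refine Eq.trans ?_ h2
      group
    rw [h1]; group

/-- The relation of length five. -/
theorem Bas.five (B : Bas hF T) {a b : P} (ha : a ∈ T) (hb : b ∈ T) (hab : a ≠ b)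
    (cab : a * b = b * a) : ∃ l : List P, (∀ p ∈ l, Tri T a b p) ∧
    (∀ p ∈ l, ∀ q ∈ l, p * q = q * p) ∧ l.prod = a := by
  obtain ⟨c, ht⟩ := B.third ha hb hab cab
  obtain ⟨q, π, lift, u, v, w, hq, L, hiff, hf⟩ := B.exists_label
  have hT := tri_frame L hiff hf
  have qcom : ∀ x : Subgroup.centralizer ({q} : Set P), q * (x : P) = (x : P) * q :=
    fun x => AllOfLab.zel_comm x
  have hT' : Tri T q (lift u : P) (lift v : P) :=
    ⟨hq, hT.mx, hT.my, lift_ne_q L hf.u_ne hf.uu, lift_ne_q L hf.v_ne hf.vv, hT.xy, qcom _, qcom _,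
      hT.cxy⟩
  obtain ⟨g, g1, g2, -⟩ := B.tf.tri _ _ _ _ _ _ hT' ht
  obtain ⟨ω, hω⟩ := exists_omega hF
  have hcomb := fun a b c a' b' c' => AllOfLab.Fr3.comb hF hf a b c a' b' c'
  -- the five points
  obtain ⟨S, hS⟩ : ∃ S : List (Fin 6 → F), S = [v, w, v + w, ω • v + w, ω ^ 2 • v + w] := ⟨_, rfl⟩
  have hform : ∀ p ∈ S, ∃ b c : F, (b ≠ 0 ∨ c ≠ 0) ∧ p = (0 : F) • u + b • v + c • w := by
    intro p hp
    rw [hS] at hp
    simp only [List.mem_cons, List.not_mem_nil, or_false] at hp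
    rcases hp with rfl | rfl | rfl | rfl | rfl
    · exact ⟨1, 0, Or.inl one_ne_zero, by module⟩
    · exact ⟨0, 1, Or.inr one_ne_zero, by module⟩
    · exact ⟨1, 1, Or.inl one_ne_zero, by module⟩
    · exact ⟨ω, 1, Or.inr one_ne_zero, by module⟩
    · exact ⟨ω ^ 2, 1, Or.inr one_ne_zero, by module⟩
  have e1 : u = (1 : F) • u + (0 : F) • v + (0 : F) • w := by module
  have hne : ∀ p ∈ S, p ≠ 0 := by
    intro p hp h0
    obtain ⟨b, c, hbc, rfl⟩ := hform p hp
    obtain ⟨-, h1, h2⟩ := hf.ind 0 b c h0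
    rcases hbc with h3 | h3
    · exact h3 h1
    · exact h3 h2
  have hperp : ∀ p ∈ S, ∀ p' ∈ S, hermForm 6 F 2 p p' = 0 := by
    intro p hp p' hp'
    obtain ⟨b, c, -, rfl⟩ := hform p hp
    obtain ⟨b', c', -, rfl⟩ := hform p' hp'
    exact hcomb _ _ _ _ _ _
  have hperpu : ∀ p ∈ S, hermForm 6 F 2 u p = 0 := by
    intro p hp
    obtain ⟨b, c, -, rfl⟩ := hform p hp
    have := hcomb 1 0 0 0 b c
    rwa [← e1] at this
  have hcom : ∀ p ∈ S, ∀ p' ∈ S, (lift p : P) * lift p' = (lift p' : P) * lift p :=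
    fun p hp p' hp' => lift_com L (hne p hp) (hne p' hp') (hperp p hp p hp) (hperp p' hp' p' hp')
      (hperp p hp p' hp')
  have htri : ∀ p ∈ S, Tri T q (lift u : P) (lift p : P) := by
    intro p hp
    have hm := lift_mem hiff (hne p hp) (hperp p hp p hp)
    refine ⟨hq, hT.mx, hm, lift_ne_q L hf.u_ne hf.uu, lift_ne_q L (hne p hp) (hperp p hp p hp), ?_,
      qcom _, qcom _, lift_com L hf.u_ne (hne p hp) hf.uu (hperp p hp p hp) (hperpu p hp)⟩
    intro h1
    have h2 : lift u = lift p := Subtype.ext h1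
    rw [L.lift_eq_iff hf.uu (hperp p hp p hp) hf.u_ne (hne p hp)] at h2
    obtain ⟨k, hk, hku⟩ := h2
    obtain ⟨b, c, hbc, hp'⟩ := hform p hp
    obtain ⟨h3, -, -⟩ := hf.ind k (-b) (-c) (by
      have : k • u + (-b) • v + (-c) • w = k • u - ((0 : F) • u + b • v + c • w) := by module
      rw [this, ← hp', hku, sub_self])
    exact hk h3
  have hline := L.line v w hf.v_ne hf.w_ne hf.vv hf.ww hf.vw (by
    rintro ⟨k, hk⟩
    obtain ⟨-, -, h3⟩ := hf.ind 0 k (-1) (by
      have : (0 : F) • u + k • v + (-1 : F) • w = k • v - w := by module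
      rw [this, ← hk, sub_self])
    exact one_ne_zero (neg_eq_zero.1 h3)) ω hω
  refine ⟨(S.map fun p => (lift p : P)).map fun p => g * p * g⁻¹, ?_, ?_, ?_⟩
  · intro p hp
    rw [List.map_map, List.mem_map] at hp
    obtain ⟨p, hp, rfl⟩ := hp
    have := B.tri_conj g (htri p hp)
    rw [g1, g2] at this
    exact this
  · intro p hp p' hp'
    rw [List.map_map, List.mem_map] at hp hp'
    obtain ⟨p, hp, rfl⟩ := hp
    obtain ⟨p', hp', rfl⟩ := hp'
    exact conj_comm g (hcom p hp p' hp')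
  · rw [conj_list_prod, ← g1]
    congr 2
    have h2 := congrArg Subtype.val hline
    rw [hS]
    simp only [List.map_cons, List.map_nil, List.prod_cons, List.prod_nil, mul_one]
    simp only [Subgroup.coe_mul] at h2
    have h3 : ((zel q : Subgroup.centralizer ({q} : Set P)) : P) = q := rfl
    rw [h3] at h2
    refine Eq.trans ?_ h2
    group

/-- **All properties of the transpositions.** -/
theorem Bas.tp (B : Bas hF T) : TP T where
  tf := B.tf
  three x hx y hy := B.three hx hy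
  pair a ha b hb c hc hab cab h := B.comm_of_pair ha hb hc hab cab h
  uniq a ha b hb c hc d hd hab cab ccd h := B.uniq ha hb hc hd hab cab ccd h
  third a ha b hb hab cab := B.third ha hb hab cab
  config a b c h := B.config h
  fix f hf := B.fix hf
  moved f hf h1 := B.moved hf h1
  five a ha b hb hab cab := B.five ha hb hab cab
  hept x y w h := B.hept h
  noroot x y w h g hS := B.noroot h hS

end Cfsg.Agent.StdFi22.TLev
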