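import Cfsg.Agent.StdFi22.Main
import Cfsg.Agent.StdFi22.HeptFive
import Cfsg.Agent.R08.AutT

/-!
# The reduction of S1735 at `Fi22`, conditional on the Z*-input
-/

set_option autoImplicit false

namespace Cfsg.Agent.StdFi22.MainFi22

open Cfsg Cfsg.Agent.R01

theorem bas : TLev.Bas Cfsg.Agent.Fischer.Unit22.hF R08.AutT.T :=
  ⟨Fi22Facts.isThreeTranspositionClass_T, R08.AutT.base⟩

theorem tp : TP R08.AutT.T := bas.tp

theorem not_comm : ¬ IsMulCommutative Spor.Fi22 := by
  intro h
  obtain ⟨x, y, w, w', ht, -⟩ := R08.AutT.tFacts.four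
  obtain ⟨c, hc, h1, -⟩ := R08.AutT.tFacts.link x ht.mx y ht.my ht.xy ht.cxy
  exact h1 (mul_comm' c x)

theorem center_eq (f : Spor.Fi22) (hf : ∀ x, f * x = x * f) : f = 1 := by
  have hs := Fi22Facts.isSimple
  rcases Subgroup.Normal.eq_bot_or_eq_top
    (inferInstance : (Subgroup.center Spor.Fi22).Normal) with h | h
  · have h1 : f ∈ Subgroup.center Spor.Fi22 := by
      rw [Subgroup.mem_center_iff]
      exact fun x => (hf x).symm
    rw [h, Subgroup.mem_bot] at h1
    exact h1
  · exfalso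
    apply not_comm
    refine ⟨⟨fun a b => ?_⟩⟩
    have h1 : b ∈ Subgroup.center Spor.Fi22 := by rw [h]; trivial
    rw [Subgroup.mem_center_iff] at h1
    exact h1 a

end Cfsg.Agent.StdFi22.MainFi22
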