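import Mathlib
import Cfsg.Prelude.Def_Spor_Fi22

/-!
# S1735: the output of the reduction (helper51)

`L` a perfect double cover of `Fi22` with centre `⟨z⟩`, `C(L) = ⟨z⟩`, `C(z) = L` or `|C(z) : L| = 2`, and `z` is
conjugate to an element of `L` other than `z`.
-/

set_option autoImplicit false

namespace Cfsg.Agent.StdFi22.OutDef

open Cfsg

universe w

variable {G : Type w} [Group G]

/-- The output of the reduction. -/
structure Out (z : G) (L : Subgroup G) (φ : L →* Spor.Fi22) : Prop where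
  zz : z * z = 1
  zne : z ≠ 1
  zL : z ∈ L
  le : ∀ l ∈ L, l * z = z * l
  perf : commutator L = ⊤
  surj : Function.Surjective φ
  ker : ∀ l : L, φ l = 1 ↔ l = 1 ∨ (l : G) = z
  /-- (O1) -/
  cent : ∀ c : G, c * z = z * c → (∀ l ∈ L, c * l = l * c) → c = 1 ∨ c = z
  /-- (O2) -/
  mul : ∀ a b : G, a * z = z * a → b * z = z * b → a ∉ L → b ∉ L → a * b ∈ L
  /-- (O3) -/
  exz : ∃ g : G, g * z * g⁻¹ ∈ L ∧ g * z * g⁻¹ ≠ z

end Cfsg.Agent.StdFi22.OutDef
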