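import Cfsg.Agent.R08.FusFinal
import Cfsg.Agent.R08.X0Core
import Cfsg.Agent.R08.TetFinalFi24
import Cfsg.Agent.R08.LemmaVInst
import Cfsg.Agent.StdFi22.OutDef

/-!
# S1735, assembly after the reduction (helper51)

`L` a perfect double cover of `Fi22` with centre `⟨z⟩`, `C(L) = ⟨z⟩`, `C(z) = L` or `|C(z) : L| = 2`, and `z` is
conjugate to an element of `L` other than `z`: `G` is `Fi23` (S1714) or `Fi24'` (Theorem X and the closing).
-/

set_option autoImplicit false

namespace Cfsg.Agent.StdFi22.Final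

open Cfsg Cfsg.Agent.R08 Cfsg.Agent.StdFi22.OutDef
open Cfsg.Agent.R08.AutT (T)

universe w

variable {G : Type w} [Group G]

variable {z : G} {L : Subgroup G} {φ : L →* Spor.Fi22}

/-- `C(z) = L`: `Fi23` by S1714. -/
theorem fi23 [Finite G] (O : Out z L φ) (h : ∀ b : G, b * z = z * b → b ∈ L) : Spor.IsoFi23 G := by
  have hCL : Subgroup.centralizer ({z} : Set G) = L := by
    ext g
    rw [Subgroup.mem_centralizer_singleton_iff]
    exact ⟨h g, O.le g⟩
  obtain ⟨g, hg, hgz⟩ := O.exz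
  let e : Subgroup.centralizer ({z} : Set G) ≃* L := MulEquiv.subgroupCongr hCL
  have he : ∀ x, ((e x : L) : G) = x := fun _ => rfl
  refine FusOne.fi23_of (FusFinal.st1714 G) O.zz O.zne (X1.perf_of_equiv e O.perf)
    (φ.comp e.toMonoidHom) (O.surj.comp e.surjective) (fun x => ?_) ⟨g, O.le _ hg, hgz⟩
  show φ (e x) = 1 ↔ _
  rw [O.ker, he]
  constructor
  · rintro (h1 | h1)
    · left; exact e.injective (by rw [h1, map_one])
    · exact Or.inr h1
  · rintro (h1 | h1)
    · left; rw [h1, map_one]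
    · exact Or.inr h1

/-- `|C(z) : L| = 2`: the hypotheses of Theorem X. -/
theorem hyp (O : Out z L φ) (h : ∃ b : G, b * z = z * b ∧ b ∉ L) : X1.Hyp z L φ where
  uu := O.zz
  une := O.zne
  le := O.le
  mul := O.mul
  out := h
  perf := O.perf
  surj := O.surj
  ker := O.ker
  cent := O.cent

theorem not_dvd [Finite G] (H : X1.Hyp z L φ) (hz : z ∈ L) :
    ¬ 2 ^ 20 ∣ Nat.card (Subgroup.centralizer ({z} : Set G)) := by
  rw [FusOne.card_cent H hz, Cfsg.Agent.R01.Fi22Facts.card]
  norm_num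

/-- `|C(z) : L| = 2`: `Fi24'` by Theorem X and the closing. -/
theorem fi24 [Finite G] [IsSimpleGroup G] (hO : ∀ t : G, orderOf t = 2 → Cfsg.centralizerPPrimeCore 2 t = ⊥)
    (O : Out z L φ) (h : ∃ b : G, b * z = z * b ∧ b ∉ L) : Spor.IsoFi24' G := by
  have H := hyp O h
  obtain ⟨g, hg, hgz⟩ := O.exz
  obtain ⟨r, hr, g', hg'⟩ := FusFinal.exists_fused hO LemmaVInst.lemmaV H O.zL hg rfl hgz
  have hle : L ≤ Subgroup.centralizer ({z} : Set G) := fun l hl =>
    Subgroup.mem_centralizer_singleton_iff.2 (O.le l hl)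
  have hidx : (L.subgroupOf (Subgroup.centralizer ({z} : Set G))).index = 2 := by
    rw [Subgroup.index_eq_two_iff]
    obtain ⟨b, hb, hbL⟩ := h
    refine ⟨⟨b, Subgroup.mem_centralizer_singleton_iff.2 hb⟩, fun c => ?_⟩
    have hc := Subgroup.mem_centralizer_singleton_iff.1 c.2
    rw [Subgroup.mem_subgroupOf, Subgroup.mem_subgroupOf]
    show Xor ((c : G) * b ∈ L) ((c : G) ∈ L)
    by_cases hcL : (c : G) ∈ L
    · right
      refine ⟨hcL, fun h => hbL ?_⟩
      have := L.mul_mem (L.inv_mem hcL) h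
      rwa [inv_mul_cancel_left] at this
    · left
      exact ⟨O.mul _ _ hc hb hcL hbL, hcL⟩
  have hz2 : orderOf z = 2 := orderOf_eq_prime (by rw [pow_two, O.zz]) O.zne
  let e : L.subgroupOf (Subgroup.centralizer ({z} : Set G)) ≃* L := Subgroup.subgroupOfEquivOfLe hle
  have he : ∀ x, ((e x : L) : G) = ((x : Subgroup.centralizer ({z} : Set G)) : G) := fun _ => rfl
  obtain ⟨H', h1, h2, -⟩ := X0Core.theoremX hz2 (L.subgroupOf (Subgroup.centralizer ({z} : Set G))) hidx
    (X1.perf_of_equiv e O.perf) (φ.comp e.toMonoidHom) (O.surj.comp e.surjective)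
    (fun l => by
      show φ (e l) = 1 ↔ _
      rw [O.ker, he]
      constructor
      · rintro (h1 | h1)
        · left; exact e.injective (by rw [h1, map_one])
        · exact Or.inr h1
      · rintro (h1 | h1)
        · left; rw [h1, map_one]
        · exact Or.inr h1)
    (fun c hc => by
      rcases O.cent c (Subgroup.mem_centralizer_singleton_iff.1 c.2) (fun l hl => by
        have := hc ⟨l, hle hl⟩ (Subgroup.mem_subgroupOf.2 hl)
        exact congrArg Subtype.val this) with h1 | h1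
      · left; exact Subtype.ext h1
      · right; exact h1)
    (e.symm r) (by
      show φ (e (e.symm r)) ∈ T
      rw [e.apply_symm_apply]; exact hr)
    ⟨g', by
      rw [hg', ← he, e.apply_symm_apply]⟩
  have h3 : H' = ⊤ := TetFinalFi24.main h2 O.zne O.zz h1 (not_dvd H O.zL)
  subst h3
  obtain ⟨e'⟩ := h2
  exact ⟨Subgroup.topEquiv.symm.trans e'⟩

/-- **S1735 after the reduction.** -/
theorem main [Finite G] [IsSimpleGroup G] (hO : ∀ t : G, orderOf t = 2 → Cfsg.centralizerPPrimeCore 2 t = ⊥)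
    (O : Out z L φ) : Spor.IsoFi23 G ∨ Spor.IsoFi24' G := by
  by_cases h : ∀ b : G, b * z = z * b → b ∈ L
  · exact Or.inl (fi23 O h)
  · push Not at h
    obtain ⟨b, hb, hbL⟩ := h
    exact Or.inr (fi24 hO O ⟨b, hb, hbL⟩)

end Cfsg.Agent.StdFi22.Final
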