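import Cfsg.Agent.StdFi22.Defs
import Cfsg.Agent.R08.FusOne
import Cfsg.Agent.R08.LiftCls
import Cfsg.Agent.StandardComponent.StdCtx
import Cfsg.Agent.S1714

/-!
From the hypotheses of S1735 to the structure `Red`, and from the output of the reduction to the inputs of S1714
and of the fusion theorem.
-/

set_option autoImplicit false

namespace Cfsg.Agent.StdFi22.Glue

open Cfsg Cfsg.Agent.R01 Cfsg.Agent.R01.Lifts
open Cfsg.Agent.R08.AutT (T)
open Cfsg.Agent.R08.LiftCls

universe w

variable {G : Type w} [Group G]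

/-- The covering data. -/
theorem cov_of {C : Type w} [Group C] [Finite C] (hV : R08.X1.LemmaV.{w}) {π : C →* Spor.Fi22} {z : C}
    {D : Set C} (h : Cls π z D) : Cov π z T D where
  lift := h.lifted
  perf := h.perf
  hns := h.hns
  cases := fun α hα => h.aut_cases α hα
  inner := fun α hα => hV C π z D h.lifted h.perf α hα

/-- An element of even order of `C(L)` which stays in `C(L)` normalises `L`. -/
theorem mem_normalizer {L : Subgroup G} (hL : IsStandardSubgroup L) {v g : G}
    (hv : ∀ l ∈ L, v * l = l * v) (hvv : v * v = 1) (hv1 : v ≠ 1)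
    (hg : ∀ l ∈ L, g * v * g⁻¹ * l = l * (g * v * g⁻¹)) : g ∈ Subgroup.normalizer (L : Set G) := by
  rw [hL.2.2.2]
  by_contra hgn
  have hodd := hL.2.1.2 g hgn
  have hmem : g * v * g⁻¹ ∈ Subgroup.centralizer (L : Set G) ⊓
      (Subgroup.centralizer (L : Set G)).map (MulAut.conj g).toMonoidHom :=
    ⟨Subgroup.mem_centralizer_iff.2 fun l hl => (hg l hl).symm,
      ⟨v, Subgroup.mem_centralizer_iff.2 fun l hl => (hv l hl).symm, rfl⟩⟩
  have hdvd : orderOf (⟨g * v * g⁻¹, hmem⟩ : ↥(Subgroup.centralizer (L : Set G) ⊓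
      (Subgroup.centralizer (L : Set G)).map (MulAut.conj g).toMonoidHom)) ∣ _ :=
    orderOf_dvd_natCard _
  have h2 : orderOf (g * v * g⁻¹) = 2 := by
    apply orderOf_eq_prime
    · rw [pow_two]
      calc g * v * g⁻¹ * (g * v * g⁻¹) = g * (v * v) * g⁻¹ := by group
        _ = 1 := by rw [hvv]; group
    · intro h
      apply hv1
      have := congrArg (fun x => g⁻¹ * x * g) h
      simpa [mul_assoc] using this
  rw [Subgroup.orderOf_mk, h2] at hdvd
  exact (Nat.not_even_iff_odd.mpr hodd) (even_iff_two_dvd.mpr hdvd)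

/-- **The hypotheses of S1735 give the structure `Red`.** -/
theorem exists_red [Finite G] [IsSimpleGroup G] (hV : R08.X1.LemmaV.{w}) (hG : ¬ IsMulCommutative G)
    (hbal : ∀ t : G, orderOf t = 2 → Cfsg.centralizerPPrimeCore 2 t = ⊥)
    {L : Subgroup G} (hL : Cfsg.IsStandardSubgroup L)
    (hZ : Nat.card ↥(Subgroup.center ↥L) = 2)
    (hX : Nonempty (↥L ⧸ Subgroup.center ↥L ≃* Cfsg.Spor.Fi22)) :
    ∃ (z : G) (φ : L →* Spor.Fi22) (D : Set L), orderOf z = 2 ∧ Red z L φ T D := by
  obtain ⟨e⟩ := hX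
  obtain ⟨z, hz1, hzz, hzL, hzC, huniq⟩ := StandardComponent.StdCtx.exists_inv hZ
  have hz : orderOf z = 2 := orderOf_eq_prime (by rw [pow_two, hzz]) hz1
  have hzc : ∀ l ∈ L, z * l = l * z := fun l hl => (Subgroup.mem_centralizer_iff.1 hzC l hl).symm
  let φ : L →* Spor.Fi22 := e.toMonoidHom.comp (QuotientGroup.mk' (Subgroup.center L))
  have hφ1 : ∀ x : L, φ x = 1 ↔ x ∈ Subgroup.center L := by
    intro x
    show e (QuotientGroup.mk' (Subgroup.center L) x) = 1 ↔ _
    rw [map_eq_one_iff e e.injective]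
    exact QuotientGroup.eq_one_iff x
  have hext : Ext φ (⟨z, hzL⟩ : L) :=
    { surj := e.surjective.comp (QuotientGroup.mk'_surjective _)
      zz := Subtype.ext hzz
      zne := fun h => hz1 (congrArg Subtype.val h)
      ker := by
        intro c
        rw [hφ1]
        constructor
        · intro hc
          rcases huniq c c.2 (Subgroup.mem_centralizer_iff.2 fun l hl =>
            congrArg Subtype.val (Subgroup.mem_center_iff.1 hc ⟨l, hl⟩)) with h | h
          · left; exact Subtype.ext h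
          · right; exact Subtype.ext h
        · rintro (rfl | rfl)
          · exact one_mem _
          · exact Subgroup.mem_center_iff.2 fun g => Subtype.ext (hzc g g.2).symm
      comm := fun c => Subtype.ext (hzc c c.2).symm }
  obtain ⟨D, hD⟩ := exists_cls hext hL.1.1.commutator_eq_top
  refine ⟨z, φ, D, hz, ⟨hzL, cov_of hV hD, ?_, ?_, ?_, ?_⟩⟩
  · intro g hg x hx
    have hgz : g * z * g⁻¹ = z := by rw [hg]; group
    exact (Subgroup.mem_normalizer_iff.1 (mem_normalizer hL (v := z) (g := g) hzc hzz hz1 (by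
      rw [hgz]; exact hzc)) x).1 hx
  · intro v hv hvv hv1 g hg
    have hn := mem_normalizer hL hv hvv hv1 hg
    have hz2 : g * z * g⁻¹ ∈ L := (Subgroup.mem_normalizer_iff.1 hn z).1 hzL
    have hz3 : g * z * g⁻¹ ∈ Subgroup.centralizer (L : Set G) := by
      rw [Subgroup.mem_centralizer_iff]
      intro l hl
      have h1 : g⁻¹ * l * g ∈ L := by
        have := (Subgroup.mem_normalizer_iff.1 (Subgroup.inv_mem _ hn) l).1 hl
        rwa [inv_inv] at this
      have h2 := hzc _ h1
      calc l * (g * z * g⁻¹) = g * ((g⁻¹ * l * g) * z) * g⁻¹ := by group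
        _ = g * (z * (g⁻¹ * l * g)) * g⁻¹ := by rw [h2]
        _ = g * z * g⁻¹ * l := by group
    rcases huniq _ hz2 hz3 with h | h
    · exfalso
      apply hz1
      have := congrArg (fun x => g⁻¹ * x * g) h
      simpa [mul_assoc] using this
    · rwa [mul_inv_eq_iff_eq_mul] at h
  · intro N hNz hNc hodd
    have hle : N ≤ Subgroup.centralizer ({z} : Set G) := fun n hn =>
      Subgroup.mem_centralizer_singleton_iff.2 (hNz n hn)
    have hnor : (N.subgroupOf (Subgroup.centralizer ({z} : Set G))).Normal := by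
      constructor
      intro n hn g
      exact hNc g (Subgroup.mem_centralizer_singleton_iff.1 g.2) n hn
    have h1 : N.subgroupOf (Subgroup.centralizer ({z} : Set G)) ≤
        pPrimeCore 2 ↥(Subgroup.centralizer ({z} : Set G)) := by
      apply Cfsg.Agent.Lib.Cores.le_pPrimeCore hnor
      rw [Nat.card_congr (Subgroup.subgroupOfEquivOfLe hle).toEquiv]
      exact Nat.coprime_two_right.2 hodd
    have h2 := hbal z hz
    unfold centralizerPPrimeCore at h2
    rw [eq_bot_iff]
    intro n hn
    have h3 : n ∈ (pPrimeCore 2 ↥(Subgroup.centralizer ({z} : Set G))).map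
        (Subgroup.centralizer ({z} : Set G)).subtype := ⟨⟨n, hle hn⟩, h1 hn, rfl⟩
    rwa [h2] at h3
  · obtain ⟨g, hg1, hg2⟩ := StandardComponent.StdCtx.fusion hG hz
    exact ⟨g, hg2, hg1.eq⟩

variable {z : G} {L : Subgroup G} {φ : L →* Spor.Fi22} {D : Set L}

theorem comm_of (h : Red z L φ T D) {l : G} (hl : l ∈ L) : l * z = z * l :=
  congrArg Subtype.val (h.cov.lift.ext.comm ⟨l, hl⟩)

theorem orderOf_z (h : Red z L φ T D) : orderOf z = 2 := by
  apply orderOf_eq_prime
  · rw [pow_two]
    exact congrArg Subtype.val h.cov.lift.ext.zz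
  · intro h1
    exact h.cov.lift.ext.zne (Subtype.ext h1)

/-- The case of a small centraliser: `Fi23`. -/
theorem fi23_of [Finite G] (h : Red z L φ T D) (hC : ∀ c : G, c * z = z * c → c ∈ L)
    (ho3 : ∃ g : G, g * z * g⁻¹ ∈ L ∧ g * z * g⁻¹ ≠ z) : Cfsg.Spor.IsoFi23 G := by
  have hLC : L = Subgroup.centralizer ({z} : Set G) := by
    ext x
    rw [Subgroup.mem_centralizer_singleton_iff]
    exact ⟨fun hx => comm_of h hx, fun hx => hC x hx⟩
  obtain ⟨g, hg1, hg2⟩ := ho3
  subst hLC
  have hzz : z * z = 1 := congrArg Subtype.val h.cov.lift.ext.zz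
  have hz1 : z ≠ 1 := fun h1 => h.cov.lift.ext.zne (Subtype.ext h1)
  obtain ⟨e⟩ := R08.FusOne.fi23_of (fun d hd hq _ e hn => Cfsg.Agent.S1714.result d hd hq e hn)
    hzz hz1 h.cov.perf φ h.cov.lift.ext.surj (by
      intro x
      rw [h.cov.lift.ext.ker]
      constructor
      · rintro (h1 | h1)
        · exact Or.inl h1
        · exact Or.inr (congrArg Subtype.val h1)
      · rintro (h1 | h1)
        · exact Or.inl h1
        · exact Or.inr (Subtype.ext h1))
    ⟨g, Subgroup.mem_centralizer_singleton_iff.1 hg1, hg2⟩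
  exact ⟨e⟩

/-- The input of the fusion theorem. -/
theorem hyp_of (h : Red z L φ T D) (ho1 : ∀ k : G, (∀ l ∈ L, k * l = l * k) → k = 1 ∨ k = z)
    (ho2 : ∀ a b : G, a * z = z * a → b * z = z * b → a ∉ L → b ∉ L → a * b ∈ L)
    (hC : ¬ ∀ c : G, c * z = z * c → c ∈ L) : R08.X1.Hyp z L φ where
  uu := congrArg Subtype.val h.cov.lift.ext.zz
  une := fun h1 => h.cov.lift.ext.zne (Subtype.ext h1)
  le := fun l hl => comm_of h hl
  mul := ho2
  out := by
    by_contra hcon
    apply hC
    intro c hc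
    by_contra hcL
    exact hcon ⟨c, hc, hcL⟩
  perf := h.cov.perf
  surj := h.cov.lift.ext.surj
  ker := by
    intro x
    rw [h.cov.lift.ext.ker]
    constructor
    · rintro (h1 | h1)
      · exact Or.inl h1
      · exact Or.inr (congrArg Subtype.val h1)
    · rintro (h1 | h1)
      · exact Or.inl h1
      · exact Or.inr (Subtype.ext h1)
  cent := fun c _ hc => ho1 c hc

end Cfsg.Agent.StdFi22.Glue
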