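import Mathlib
import Cfsg.Agent.S0215

/-!
# Glauberman's theorem for an automorphism of order two of a simple group

`exists_inv`: if `σ` is an automorphism of order two of a finite simple group `P` of even order then
`(f * (σ f)⁻¹)² = 1 ≠ f * (σ f)⁻¹` for some `f`.
-/

set_option autoImplicit false

namespace Cfsg.Agent.StdFi22.ZInv

/-- an involution which commutes with no other conjugate of itself is central modulo a normal subgroup of odd order -/
theorem isolated {G : Type*} [Group G] [Finite G] {z : G} (hz : orderOf z = 2)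
    (hcon : ∀ g : G, g * z * g⁻¹ * z = z * (g * z * g⁻¹) → g * z * g⁻¹ = z) :
    ∃ N : Subgroup G, N.Normal ∧ Odd (Nat.card N) ∧ ∀ g : G, z * g * z⁻¹ * g⁻¹ ∈ N := by
  have : Fact (Nat.Prime 2) := ⟨Nat.prime_two⟩
  have hzp : IsPGroup 2 (Subgroup.zpowers z) := IsPGroup.of_card (n := 1) (by
    rw [Nat.card_zpowers, hz, pow_one])
  obtain ⟨P, hP⟩ := hzp.exists_le_sylow
  have hzP : z ∈ P := hP (Subgroup.mem_zpowers z)
  have hcen : ∀ x ∈ P, x * z = z * x := by
    by_contra hx
    push Not at hx
    set C : Subgroup P := Subgroup.centralizer {(⟨z, hzP⟩ : P)} with hC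
    have hCtop : C ≠ ⊤ := by
      intro h
      obtain ⟨x, hxP, hxz⟩ := hx
      have h1 : (⟨x, hxP⟩ : P) ∈ C := by rw [h]; trivial
      exact hxz (congrArg Subtype.val (Subgroup.mem_centralizer_singleton_iff.1 h1))
    have hnil : Group.IsNilpotent P := P.2.isNilpotent
    have hlt : C < Subgroup.normalizer (C : Set P) :=
      Group.normalizerCondition_of_isNilpotent C (lt_top_iff_ne_top.2 hCtop)
    obtain ⟨y, hy, hyC⟩ := Set.exists_of_ssubset hlt
    have h1 : y * ⟨z, hzP⟩ * y⁻¹ ∈ C := (Subgroup.mem_normalizer_iff.1 hy _).1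
      (Subgroup.mem_centralizer_singleton_iff.2 rfl)
    have h2 := Subgroup.mem_centralizer_singleton_iff.1 h1
    have h3 : (y : G) * z * (y : G)⁻¹ * z = z * (y * z * (y : G)⁻¹) := congrArg Subtype.val h2
    have h4 := hcon y h3
    apply hyC
    refine Subgroup.mem_centralizer_singleton_iff.2 (Subtype.ext ?_)
    rwa [mul_inv_eq_iff_eq_mul] at h4
  exact Cfsg.Agent.S0215.result P z hz hzP (fun g hg => hcon g (hcen _ hg))

/-- **Glauberman's theorem for an automorphism of order two.** -/
theorem exists_inv {P : Type*} [Group P] [Finite P] [IsSimpleGroup P] (hP : Even (Nat.card P))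
    (σ : P ≃* P) (hσ : ∀ x, σ (σ x) = x) (hne : ∃ x, σ x ≠ x) :
    ∃ f : P, f * (σ f)⁻¹ ≠ 1 ∧ (f * (σ f)⁻¹) * (f * (σ f)⁻¹) = 1 := by
  by_contra hcon
  push Not at hcon
  let s : MulAut P := σ
  have hss : s * s = 1 := MulEquiv.ext hσ
  have hs1 : s ≠ 1 := by
    intro e
    obtain ⟨x, hx⟩ := hne
    exact hx (congrArg (fun m : MulAut P => m x) e)
  let K : Subgroup (MulAut P) := Subgroup.zpowers s
  let X := SemidirectProduct P K K.subtype
  have hfin : Finite X := Finite.of_equiv (P × K) SemidirectProduct.equivProd.symm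
  let s' : K := ⟨s, Subgroup.mem_zpowers s⟩
  let t : X := SemidirectProduct.inr s'
  have htt : t * t = 1 := by
    show SemidirectProduct.inr s' * SemidirectProduct.inr s' = 1
    rw [← map_mul, show s' * s' = 1 from Subtype.ext hss, map_one]
  have ht1 : t ≠ 1 := by
    intro e
    apply hs1
    have h1 : s' = 1 := SemidirectProduct.inr_injective (e.trans (map_one _).symm)
    exact congrArg Subtype.val h1
  have ht : orderOf t = 2 := orderOf_eq_prime (by rw [pow_two, htt]) ht1
  have htinv : t⁻¹ = t := inv_eq_of_mul_eq_one_left htt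
  -- conjugation by `t`
  have hconj : ∀ f : P, t * SemidirectProduct.inl f * t⁻¹ = (SemidirectProduct.inl (σ f) : X) := by
    intro f
    have := SemidirectProduct.inl_aut (φ := K.subtype) s' f
    rw [map_inv] at this
    exact this.symm
  have hx : ∀ x : X, ∃ f : P, x * t * x⁻¹ = SemidirectProduct.inl (f * (σ f)⁻¹) * t := by
    intro x
    refine ⟨x.left, ?_⟩
    have e1 : x = SemidirectProduct.inl x.left * SemidirectProduct.inr x.right :=
      (SemidirectProduct.inl_left_mul_inr_right x).symm
    have e2 : (SemidirectProduct.inr x.right : X) * t * (SemidirectProduct.inr x.right)⁻¹ = t := by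
      show SemidirectProduct.inr x.right * SemidirectProduct.inr s' * (SemidirectProduct.inr x.right)⁻¹ =
        SemidirectProduct.inr s'
      rw [← map_mul, ← map_inv, ← map_mul]
      congr 1
      rw [mul_comm' x.right s', mul_inv_cancel_right]
    have e3 : x * t * x⁻¹ = SemidirectProduct.inl x.left * t * (SemidirectProduct.inl x.left)⁻¹ := by
      conv_lhs => rw [e1]
      rw [mul_inv_rev]
      calc (SemidirectProduct.inl x.left : X) * SemidirectProduct.inr x.right * t *
            ((SemidirectProduct.inr x.right)⁻¹ * (SemidirectProduct.inl x.left)⁻¹)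
          = SemidirectProduct.inl x.left * (SemidirectProduct.inr x.right * t *
            (SemidirectProduct.inr x.right)⁻¹) * (SemidirectProduct.inl x.left)⁻¹ := by group
        _ = _ := by rw [e2]
    rw [e3, map_mul, map_inv, ← hconj, mul_inv_rev, mul_inv_rev, inv_inv]
    simp only [mul_assoc, inv_mul_cancel, mul_one]
  obtain ⟨N, hN, hodd, hNt⟩ := isolated ht (by
    intro x hxt
    obtain ⟨f, hf⟩ := hx x
    rw [hf] at hxt ⊢
    have e1 : (SemidirectProduct.inl (f * (σ f)⁻¹) : X) =
        SemidirectProduct.inl (σ (f * (σ f)⁻¹)) := by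
      rw [← hconj, htinv, mul_assoc t, ← hxt, mul_assoc, htt, mul_one]
    have e2 := SemidirectProduct.inl_injective e1
    have e3 : σ (f * (σ f)⁻¹) = (f * (σ f)⁻¹)⁻¹ := by
      rw [map_mul, map_inv, hσ, mul_inv_rev, inv_inv]
    have e4 : (f * (σ f)⁻¹) * (f * (σ f)⁻¹) = 1 := by
      nth_rewrite 2 [e2]
      rw [e3, mul_inv_cancel]
    by_contra hne'
    have e5 : f * (σ f)⁻¹ ≠ 1 := by
      intro e5
      apply hne'
      rw [e5, map_one, one_mul]
    exact hcon f e5 e4)
  rcases (inferInstance : (N.comap (SemidirectProduct.inl : P →* X)).Normal).eq_bot_or_eq_top with h | h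
  · obtain ⟨f, hf⟩ := hne
    apply hf
    have h1 := hNt (SemidirectProduct.inl f)
    rw [hconj, ← map_inv, ← map_mul] at h1
    have h2 : σ f * f⁻¹ ∈ N.comap (SemidirectProduct.inl : P →* X) := h1
    rw [h, Subgroup.mem_bot, mul_inv_eq_one] at h2
    exact h2
  · have h1 : (SemidirectProduct.inl : P →* X).range ≤ N := by
      rintro _ ⟨f, rfl⟩
      have : f ∈ N.comap (SemidirectProduct.inl : P →* X) := by rw [h]; trivial
      exact this
    have h2 : Nat.card (SemidirectProduct.inl : P →* X).range = Nat.card P :=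
      Nat.card_congr (MonoidHom.ofInjective SemidirectProduct.inl_injective).toEquiv.symm
    have h3 := Subgroup.card_dvd_of_le h1
    rw [h2] at h3
    exact (Nat.not_even_iff_odd.2 hodd) (hP.trans_dvd h3)

end Cfsg.Agent.StdFi22.ZInv
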