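import Cfsg.Agent.StdFi22.MainFi22Aux
import Cfsg.Agent.StdFi22.ZInv

/-!
# The reduction of S1735 at `Fi22`
-/

set_option autoImplicit false

namespace Cfsg.Agent.StdFi22.MainFi22

open Cfsg Cfsg.Agent.R01

theorem even_card : Even (Nat.card Spor.Fi22) := by
  obtain ⟨x, y, w, w', ht, -⟩ := R08.AutT.tFacts.four
  rw [even_iff_two_dvd, ← orderOf_eq_prime (x := x) (p := 2)
    (by rw [pow_two]; exact R08.AutT.tFacts.sq x ht.mx) (R08.AutT.tFacts.ne x ht.mx)]
  exact orderOf_dvd_natCard x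

/-- **The reduction of S1735.** -/
theorem red {G : Type*} [Group G] [Finite G] {z : G} {L : Subgroup G} {φ : L →* Spor.Fi22}
    {D : Set L} (h : Red z L φ R08.AutT.T D) :
    (∀ k : G, (∀ l ∈ L, k * l = l * k) → k = 1 ∨ k = z) ∧
    (∀ a b : G, a * z = z * a → b * z = z * b → a ∉ L → b ∉ L → a * b ∈ L) ∧
    ∃ g : G, g * z * g⁻¹ ∈ L ∧ g * z * g⁻¹ ≠ z := by
  have := Fi22Facts.isSimple
  exact Main.red h tp center_eq fun σ h1 h2 => ZInv.exists_inv even_card σ h1 h2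

end Cfsg.Agent.StdFi22.MainFi22
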