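import Cfsg.Agent.R08.FusFinal
import Cfsg.Agent.R08.X0Core

/-!
Fusion and Theorem X together.
-/

set_option autoImplicit false

namespace Cfsg.Agent.StdFi22.Bridge

open Cfsg Cfsg.Agent.R01 Cfsg.Agent.R01.Lifts Cfsg.Agent.R08
open Cfsg.Agent.R08.AutT (T)
open Cfsg.Agent.R08.LiftCls

universe w

/-- **The subgroup `Fi24'`.** -/
theorem exists_sub {G : Type w} [Group G] [Finite G]
    (hO : ∀ t : G, orderOf t = 2 → Cfsg.centralizerPPrimeCore 2 t = ⊥)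
    {z : G} {L : Subgroup G} {φ : L →* Spor.Fi22} (H : X1.Hyp z L φ) (hz : z ∈ L)
    (ho3 : ∃ g : G, g * z * g⁻¹ ∈ L ∧ g * z * g⁻¹ ≠ z) :
    ∃ H' : Subgroup G, Subgroup.centralizer ({z} : Set G) ≤ H' ∧ Spor.IsoFi24' H' := by
  obtain ⟨g, hg1, hg2⟩ := ho3
  obtain ⟨r, hr, g', hg'⟩ := FusFinal.exists_fused hO LemmaVInst.lemmaV H hz hg1 rfl hg2
  obtain ⟨D, hD, hrD⟩ := exists_cls_mem (H.ext hz) H.perf hr
  have hctx := H.ctx LemmaVInst.lemmaV hz hD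
  obtain ⟨n, hn1, hn2, hcoh⟩ := CohMain.exists_coherent hctx R01.Fi22Facts.loc hrD (g := g') hg'
  obtain ⟨ε, θ, h⟩ := XTheta.theta_of_coherent (u := z) rfl H hD hctx hrD (n := n) hn1 hn2 (by
    intro x hx hne hcx
    obtain ⟨y, hy, -, -, hyx⟩ := hcoh x hx hne hcx
    exact ⟨y, hy, hyx⟩)
  obtain ⟨τ, w, hτ⟩ := X5Main.main (XBridge.emb h)
  obtain ⟨H', h1, h2, _⟩ := X0Fin.finish h hτ
  exact ⟨H', h1, h2⟩

end Cfsg.Agent.StdFi22.Bridge
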