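import Cfsg.Agent.StdFi22.Defs
import Cfsg.Agent.StdFi22.Comb

/-!
# The automorphisms of order two of the double cover

`fact1`: commuting involutory automorphisms `α`, `β` with `C(α) ≤ C(β)` and `C(α β) ≤ C(β)`: then `β = 1`.
-/

set_option autoImplicit false
set_option linter.unusedSectionVars false

namespace Cfsg.Agent.StdFi22.CLev

open Cfsg Cfsg.Agent.R01.Lifts Cfsg.Agent.R01.FiFusion Cfsg.Agent.R01.FiFacts Cfsg.Agent.R01.FiHexad

variable {C P : Type*} [Group C] [Group P] {π : C →* P} {z : C} {T : Set P} {D : Set C}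

section lifted

variable (L : Lifted π z T D)
include L

theorem inv_self {x : C} (hx : x ∈ D) : x⁻¹ = x := inv_eq_of_mul_eq_one_left (L.sq x hx)

theorem three {x y : C} (hx : x ∈ D) (hy : y ∈ D) : x * y = y * x ∨ x * y * x = y * x * y := by
  rcases L.three x hx y hy with h | h
  · exact Or.inl h
  · exact Or.inr (Comb.braid_of (L.sq x hx) (L.sq y hy) h)

theorem comm_iff {x y : C} (hx : x ∈ D) (hy : y ∈ D) : x * y = y * x ↔ π x * π y = π y * π x :=
  ⟨fun h => by rw [← map_mul, h, map_mul], L.comm x hx y hy⟩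

theorem tri_iff {x y w : C} (hx : x ∈ D) (hy : y ∈ D) (hw : w ∈ D) :
    Tri D x y w ↔ Tri T (π x) (π y) (π w) := by
  constructor
  · intro h
    exact ⟨L.map x hx, L.map y hy, L.map w hw, fun e => h.xy (L.inj x hx y hy e),
      fun e => h.xw (L.inj x hx w hw e), fun e => h.yw (L.inj y hy w hw e),
      (comm_iff L hx hy).1 h.cxy, (comm_iff L hx hw).1 h.cxw, (comm_iff L hy hw).1 h.cyw⟩
  · intro h
    exact ⟨hx, hy, hw, fun e => h.xy (by rw [e]), fun e => h.xw (by rw [e]), fun e => h.yw (by rw [e]),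
      (comm_iff L hx hy).2 h.cxy, (comm_iff L hx hw).2 h.cxw, (comm_iff L hy hw).2 h.cyw⟩

theorem uniq (hT : TP T) {a b c d : C} (ha : a ∈ D) (hb : b ∈ D) (hc : c ∈ D) (hd : d ∈ D)
    (hab : a ≠ b) (cab : a * b = b * a) (ccd : c * d = d * c) (h : π (a * b) = π (c * d)) :
    c = a ∨ c = b := by
  rw [map_mul, map_mul] at h
  rcases hT.uniq _ (L.map a ha) _ (L.map b hb) _ (L.map c hc) _ (L.map d hd)
    (fun e => hab (L.inj a ha b hb e)) ((comm_iff L ha hb).1 cab) ((comm_iff L hc hd).1 ccd) h with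
    e | e
  · exact Or.inl (L.inj c hc a ha e)
  · exact Or.inr (L.inj c hc b hb e)

theorem df (hT : TP T) : Comb.DF D where
  sq := L.sq
  conj x hx y hy := by
    have := L.conj x y hy
    rwa [inv_self L hx] at this
  three x hx y hy := three L hx hy
  uniq a ha b hb c hc d hd hab cab ccd h := uniq L hT ha hb hc hd hab cab ccd (by rw [h])
  config a b c h := by
    obtain ⟨x, hx, h1, h2, h3⟩ := hT.config _ _ _ ((tri_iff L h.mx h.my h.mw).1 h)
    obtain ⟨y, hy, rfl⟩ := L.surj x hx
    exact ⟨y, hy, L.comm y hy a h.mx h1, L.comm y hy b h.my h2,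
      fun e => h3 ((comm_iff L hy h.mw).1 e)⟩

/-- Lifting a list of members. -/
theorem exists_list (l : List P) (hl : ∀ p ∈ l, p ∈ T) :
    ∃ m : List C, (∀ x ∈ m, x ∈ D) ∧ m.map π = l := by
  induction l with
  | nil => exact ⟨[], by simp, rfl⟩
  | cons p l ih =>
    obtain ⟨m, hm, hml⟩ := ih (fun q hq => hl q (List.mem_cons_of_mem _ hq))
    obtain ⟨x, hx, hxp⟩ := L.surj p (hl p (by simp))
    refine ⟨x :: m, ?_, by rw [List.map_cons, hxp, hml]⟩
    intro y hy
    rcases List.mem_cons.1 hy with rfl | hy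
    · exact hx
    · exact hm y hy

end lifted

theorem zz (h : Cov π z T D) : z * z = 1 := h.lift.ext.zz

theorem zcomm (h : Cov π z T D) (c : C) : c * z = z * c := h.lift.ext.comm c

/-- A homomorphism commuting with the projection up to `z` fixes products of fixed elements. -/
theorem prod_fixed (β : C ≃* C) (m : List C) (hm : ∀ x ∈ m, β x = x) : β m.prod = m.prod := by
  induction m with
  | nil => simp
  | cons a m ih =>
    rw [List.prod_cons, map_mul, hm a (by simp), ih fun x hx => hm x (List.mem_cons_of_mem _ hx)]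

theorem pb (hT : TP T) (h : Cov π z T D) (β : C ≃* C) (hβ : ∀ x, β (β x) = x) (hz : β z = z)
    (hev : ∀ d ∈ D, β d ∈ D) : Comb.Pb D β where
  mem := hev
  inv d _ := hβ d
  conj d _ e _ := by rw [map_mul, map_mul]
  five c hc hne hcom := by
    by_contra hcon
    push Not at hcon
    have hβc := hev c hc
    have L := h.lift
    obtain ⟨l, h1, h2, h3⟩ := hT.five _ (L.map c hc) _ (L.map _ hβc)
      (fun e => hne (L.inj _ hβc c hc e.symm)) ((comm_iff L hc hβc).1 hcom)
    obtain ⟨m, hm, hml⟩ := exists_list L l fun p hp => (h1 p hp).mw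
    have h4 : ∀ x ∈ m, β x = x := fun x hx => hcon x (hm x hx)
      ((tri_iff L hc hβc (hm x hx)).2 (h1 _ (by rw [← hml]; exact List.mem_map_of_mem hx)))
    have h5 := prod_fixed β m h4
    have h6 : π m.prod = π c := by rw [← h3, ← hml, map_list_prod]
    rcases L.ext.map_eq.1 h6 with h7 | h7
    · rw [h7] at h5
      exact hne h5
    · rw [h7, map_mul, hz] at h5
      exact hne (mul_right_cancel h5)

section pr

variable (hT : TP T) (h : Cov π z T D) {β γ : C ≃* C} (hβz : β z = z) (hγz : γ z = z)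
  (hγ : ∀ x, γ (γ x) = x) (hc : ∀ x, γ (β x) = β (γ x)) (hfix : ∀ x, γ x = x → β x = x)
  (hβ : ∀ d ∈ D, β d ∈ D)
include hT h hβz hγz hγ hc hfix hβ

theorem pr_even (he : ∀ d ∈ D, γ d ∈ D) : Comb.Pr D γ β True where
  mem := he
  inv d _ := hγ d
  comm d _ := hc d
  conj d _ e _ := by rw [map_mul, map_mul]
  one d hd h1 h2 := by
    have h3 : γ (d * γ d) = d * γ d := by rw [map_mul, hγ, h1]
    have h4 := hfix _ h3
    rw [map_mul] at h4
    have L := h.lift
    have h5 : β d * β (γ d) = β (γ d) * β d := by rw [← map_mul, h1, map_mul]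
    exact uniq L hT hd (he d hd) (hβ d hd) (hβ _ (he d hd)) h2 h1 h5 (by rw [h4])
  ev2 _ d _ h1 := hfix d h1
  ev3 _ d hd h1 := by
    apply hfix
    rcases three h.lift hd (he d hd) with h2 | h2
    · exact absurd h2 h1
    · rw [map_mul, map_mul, hγ, h2]
  od4 h1 := absurd trivial h1

theorem pr_odd (ho : ∀ d ∈ D, γ d * z ∈ D) : Comb.Pr D (fun x => γ x * z) β False where
  mem := ho
  inv d _ := by
    show γ (γ d * z) * z = d
    rw [map_mul, hγ, hγz, mul_assoc, zz h, mul_one]
  comm d _ := by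
    show γ (β d) * z = β (γ d * z)
    rw [map_mul, hβz, hc]
  conj d _ e _ := by
    show γ (d * e * d) * z = γ d * z * (γ e * z) * (γ d * z)
    rw [map_mul, map_mul]
    calc γ d * γ e * γ d * z = γ d * (γ e) * (γ d * z) * (z * z) := by rw [zz h, mul_one]; group
      _ = γ d * γ e * (γ d * z * z) * z := by group
      _ = γ d * γ e * (z * (γ d * z)) * z := by rw [zcomm h (γ d * z)]
      _ = γ d * (γ e * z) * (γ d * z) * z := by group
      _ = γ d * (z * γ e) * (γ d * z) * z := by rw [zcomm h (γ e)]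
      _ = γ d * z * γ e * ((γ d * z) * z) := by group
      _ = γ d * z * γ e * (z * (γ d * z)) := by rw [zcomm h (γ d * z)]
      _ = _ := by group
  one d hd h1 h2 := by
    change d * (γ d * z) = γ d * z * d at h1
    change d ≠ γ d * z at h2
    have h3 : γ (d * (γ d * z)) = d * (γ d * z) := by
      rw [map_mul, map_mul, hγ, hγz, h1]
      calc γ d * (d * z) = γ d * (z * d) := by rw [zcomm h d]
        _ = _ := by group
    have h4 := hfix _ h3
    rw [map_mul] at h4
    have L := h.lift
    have h5 : β d * β (γ d * z) = β (γ d * z) * β d := by rw [← map_mul, h1, map_mul]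
    exact uniq L hT hd (ho d hd) (hβ d hd) (hβ _ (ho d hd)) h2 h1 h5 (by rw [h4])
  ev2 h1 := h1.elim
  ev3 h1 := h1.elim
  od4 _ c _ t _ h1 h2 := by
    change γ c * z = c at h1
    change γ t * z = t at h2
    rw [← map_mul]
    apply hfix
    rw [map_mul]
    have e1 : γ c = c * z := by
      calc γ c = γ c * z * z := by rw [mul_assoc, zz h, mul_one]
        _ = c * z := by rw [h1]
    have e2 : γ t = t * z := by
      calc γ t = γ t * z * z := by rw [mul_assoc, zz h, mul_one]
        _ = t * z := by rw [h2]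
    rw [e1, e2]
    calc c * z * (t * z) = c * (z * t) * z := by group
      _ = c * (t * z) * z := by rw [zcomm h t]
      _ = c * t * (z * z) := by group
      _ = c * t := by rw [zz h, mul_one]

end pr

/-- An inner automorphism of square one is induced by an element with square one modulo `z`. -/
theorem inner_sq (h : Cov π z T D) (hZ : ∀ f : P, (∀ x, f * x = x * f) → f = 1) {γ : C ≃* C}
    (hγ : ∀ x, γ (γ x) = x) {c : C} (hc : ∀ x, γ x = c * x * c⁻¹) : π c * π c = 1 := by
  apply hZ
  intro x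
  obtain ⟨y, rfl⟩ := h.lift.ext.surj x
  have h1 := hγ y
  rw [hc, hc] at h1
  rw [← map_mul, ← map_mul, ← map_mul]
  congr 1
  calc c * c * y = c * (c * y * c⁻¹) * c⁻¹ * (c * c) := by group
    _ = y * (c * c) := by rw [h1]

/-- The parity of the composition. -/
theorem odd_odd (h : Cov π z T D) {α β : C ≃* C} (hα : ∀ d ∈ D, α d * z ∈ D) (hαz : α z = z)
    (hβ : ∀ d ∈ D, β d * z ∈ D) : ∀ d ∈ D, α (β d) ∈ D := by
  intro d hd
  have h1 := hα _ (hβ d hd)
  rwa [map_mul, hαz, mul_assoc, zz h, mul_one] at h1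

/-- **FACT 1.** -/
theorem fact1 (hT : TP T) (h : Cov π z T D) (hZ : ∀ f : P, (∀ x, f * x = x * f) → f = 1)
    (α β : C ≃* C) (hα : ∀ x, α (α x) = x) (hβ : ∀ x, β (β x) = x)
    (hc : ∀ x, α (β x) = β (α x)) (hαz : α z = z) (hβz : β z = z)
    (h1 : ∀ x, α x = x → β x = x) (h2 : ∀ x, α (β x) = x → β x = x) : ∀ x, β x = x := by
  have L := h.lift
  -- an even automorphism of square one has a fixed point in `D`
  have key : ∀ γ : C ≃* C, (∀ x, γ (γ x) = x) → (∀ d ∈ D, γ d ∈ D) → ∃ d ∈ D, γ d = d := by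
    intro γ hγ he
    obtain ⟨c, hcc⟩ := h.inner γ he
    obtain ⟨t, ht, htc⟩ := hT.fix _ (inner_sq h hZ hγ hcc)
    obtain ⟨d, hd, rfl⟩ := L.surj t ht
    refine ⟨d, hd, L.inj _ (he d hd) d hd ?_⟩
    rw [hcc, map_mul, map_mul, map_inv, htc, mul_inv_cancel_right]
  have hαβ : ∀ x, (β.trans α) ((β.trans α) x) = x := by
    intro x
    show α (β (α (β x))) = x
    rw [hc, hα, hβ]
  -- `β` is even
  have hev : ∀ d ∈ D, β d ∈ D := by
    rcases h.cases β hβz with he | ho
    · exact he
    · exfalso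
      have k : ∃ d ∈ D, β d = d := by
        rcases h.cases α hαz with he' | ho'
        · obtain ⟨d, hd, h3⟩ := key α hα he'
          exact ⟨d, hd, h1 d h3⟩
        · obtain ⟨d, hd, h3⟩ := key (β.trans α) hαβ (odd_odd h ho' hαz ho)
          exact ⟨d, hd, h2 d h3⟩
      obtain ⟨d, hd, h3⟩ := k
      have h4 := ho d hd
      rw [h3] at h4
      exact L.nz d hd h4
  obtain ⟨c, hcc⟩ := h.inner β hev
  have hsq := inner_sq h hZ hβ hcc
  by_cases h3 : π c = 1
  · intro x
    rcases (L.ext.ker c).1 h3 with h4 | h4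
    · rw [hcc, h4]; group
    · rw [hcc, h4, ← zcomm h x, mul_assoc, mul_inv_cancel, mul_one]
  exfalso
  obtain ⟨t, ht, hmv⟩ := hT.moved _ hsq h3
  obtain ⟨d, hd, rfl⟩ := L.surj t ht
  have hdb : d * β d ≠ β d * d := by
    intro h4
    apply hmv
    rw [← map_inv, ← map_mul, ← map_mul, ← hcc, ← map_mul, h4, map_mul]
  have hpb := pb hT h β hβ hβz hev
  rcases h.cases α hαz with he | ho
  · refine Comb.comb (a := α) (a' := fun x => α (β x)) (b := β) (ev := True) (df L hT)
      (pr_even hT h hβz hαz hα hc h1 hev he)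
      (pr_even (γ := β.trans α) hT h hβz ?_ hαβ ?_ h2 hev ?_) hpb (fun _ _ => rfl) hd hdb
    · show α (β z) = z
      rw [hβz, hαz]
    · intro x
      show α (β (β x)) = β (α (β x))
      rw [hc]
    · intro d hd
      exact he _ (hev d hd)
  · refine Comb.comb (a := fun x => α x * z) (a' := fun x => α (β x) * z) (b := β) (ev := False)
      (df L hT) (pr_odd hT h hβz hαz hα hc h1 hev ho)
      (pr_odd (γ := β.trans α) hT h hβz ?_ hαβ ?_ h2 hev ?_) hpb (fun _ _ => rfl) hd hdb
    · show α (β z) = z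
      rw [hβz, hαz]
    · intro x
      show α (β (β x)) = β (α (β x))
      rw [hc]
    · intro d hd
      exact ho _ (hev d hd)

/-- An odd automorphism of square one which negates no member of `D`. -/
theorem odd_pair (h : Cov π z T D) {α : C ≃* C} (hα : ∀ x, α (α x) = x) (hαz : α z = z)
    (ho : ∀ d ∈ D, α d * z ∈ D) (hno : ∀ d ∈ D, α d ≠ d * z) {d : C} (hd : d ∈ D) :
    d ≠ α d * z ∧ d * (α d * z) = α d * z * d := by
  have L := h.lift
  constructor
  · intro h1
    apply hno d hd
    calc α d = α d * z * z := by rw [mul_assoc, zz h, mul_one]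
      _ = d * z := by rw [← h1]
  · rcases three L hd (ho d hd) with h1 | h1
    · exact h1
    · exfalso
      have he : d * (α d * z) * d ∈ D := (df' L) d hd _ (ho d hd)
      apply hno _ he
      rw [map_mul, map_mul, map_mul, hα, hαz, h1]
      calc α d * (d * z) * α d = α d * z * d * α d := by rw [zcomm h d]; group
        _ = α d * z * d * α d * (z * z) := by rw [zz h, mul_one]
        _ = α d * z * d * (α d * z) * z := by group
where
  df' (L : Lifted π z T D) : ∀ x ∈ D, ∀ y ∈ D, x * y * x ∈ D := by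
    intro x hx y hy
    have := L.conj x y hy
    rwa [inv_self L hx] at this

end Cfsg.Agent.StdFi22.CLev
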