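import Cfsg.Agent.StdFi22.GRed

/-!
# The reduction in `G`, third part

`C(L)` has no element of order four with square `z`.
-/

set_option autoImplicit false
set_option linter.unusedSectionVars false

namespace Cfsg.Agent.StdFi22.GLev

open Cfsg Cfsg.Agent.R01.Lifts Cfsg.Agent.R01.FiFusion Cfsg.Agent.R01.FiFacts Cfsg.Agent.R01.FiHexad

variable {G P : Type*} [Group G] [Group P] {z : G} {L : Subgroup G} {φ : L →* P} {T : Set P}
  {D : Set L}

theorem exists_tri (hT : TP T) {a : P} (ha : a ∈ T) : ∃ b c : P, Tri T a b c := by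
  obtain ⟨x, y, w, w', h, -⟩ := hT.tf.four
  obtain ⟨g, rfl⟩ := hT.tf.trans x h.mx a ha
  have hinj : ∀ {u v : P}, u ≠ v → g * u * g⁻¹ ≠ g * v * g⁻¹ := fun h h' =>
    h (mul_left_cancel (mul_right_cancel h'))
  have hc : ∀ {u v : P}, u * v = v * u → g * u * g⁻¹ * (g * v * g⁻¹) = g * v * g⁻¹ * (g * u * g⁻¹) := by
    intro u v h
    calc g * u * g⁻¹ * (g * v * g⁻¹) = g * (u * v) * g⁻¹ := by group
      _ = g * (v * u) * g⁻¹ := by rw [h]
      _ = _ := by group
  exact ⟨g * y * g⁻¹, g * w * g⁻¹, hT.tf.conj g _ h.mx, hT.tf.conj g _ h.my, hT.tf.conj g _ h.mw,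
    hinj h.xy, hinj h.xw, hinj h.yw, hc h.cxy, hc h.cxw, hc h.cyw⟩

/-- The involutions are products of the first one, two or three members of a triple. -/
theorem exists_form (hT : TP T) {f : P} (hf : f * f = 1) (h1 : f ≠ 1) :
    ∃ x y w : P, Tri T x y w ∧ (f = x ∨ f = x * y ∨ f = x * y * w) := by
  rcases hT.tf.inv f hf (hT.fix f hf) with h | h | ⟨a, ha, b, hb, hab, hc, h⟩ | ⟨a, b, c, ht, h⟩
  · exact absurd h h1
  · obtain ⟨b, c, ht⟩ := exists_tri hT h
    exact ⟨f, b, c, ht, Or.inl rfl⟩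
  · obtain ⟨c, ht⟩ := hT.third a ha b hb hab hc
    exact ⟨a, b, c, ht, Or.inr (Or.inl h)⟩
  · exact ⟨a, b, c, ht, Or.inr (Or.inr h)⟩

theorem list_prod_comm {C : Type*} [Group C] {x : C} (m : List C) (hm : ∀ a ∈ m, a * x = x * a) :
    m.prod * x = x * m.prod := by
  induction m with
  | nil => simp
  | cons a m ih =>
    rw [List.prod_cons, mul_assoc, ih fun b hb => hm b (List.mem_cons_of_mem _ hb), ← mul_assoc,
      hm a (by simp), mul_assoc]

section red

variable (h : Red z L φ T D) (hT : TP T) (hZ : ∀ f : P, (∀ x, f * x = x * f) → f = 1)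
include h hT hZ

/-- An odd number of odd elements has odd product. -/
theorem odd_list (g : G) (m : List G) (hz : ∀ a ∈ m, g⁻¹ * a * g * z = z * (g⁻¹ * a * g))
    (ho : ∀ a ∈ m, Od z D (g⁻¹ * a * g)) :
    (Even m.length → Ev D (g⁻¹ * m.prod * g)) ∧ (Odd m.length → Od z D (g⁻¹ * m.prod * g)) := by
  induction m with
  | nil =>
    refine ⟨fun _ => ?_, fun h1 => by simp at h1⟩
    rw [List.prod_nil]
    have : g⁻¹ * 1 * g = 1 := by group
    rw [this]
    exact ev_of_mem h L.one_mem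
  | cons a m ih =>
    obtain ⟨i1, i2⟩ := ih (fun b hb => hz b (List.mem_cons_of_mem _ hb))
      fun b hb => ho b (List.mem_cons_of_mem _ hb)
    have e : g⁻¹ * (a :: m).prod * g = (g⁻¹ * a * g) * (g⁻¹ * m.prod * g) := by
      rw [List.prod_cons]; group
    have e' : g⁻¹ * (a :: m).prod * g = (g⁻¹ * a * g) * (g⁻¹ * m.prod * g) := e
    have ha := ho a (by simp)
    have haz := hz a (by simp)
    constructor
    · intro h1
      rw [e]
      rw [List.length_cons] at h1
      have h2 : Odd m.length := by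
        rcases Nat.even_or_odd m.length with h3 | h3
        · exact absurd h1 (Nat.not_even_iff_odd.2 h3.add_one)
        · exact h3
      exact Od.mul h haz ha (i2 h2)
    · intro h1
      rw [e]
      rw [List.length_cons] at h1
      have h2 : Even m.length := by
        rcases Nat.even_or_odd m.length with h3 | h3
        · exact h3
        · exact absurd h3.add_one (Nat.not_even_iff_odd.2 h1)
      -- odd times even
      have h3 := i1 h2
      intro d hd
      obtain ⟨e₁, he₁, q1⟩ := h3 d hd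
      obtain ⟨e₂, he₂, q2⟩ := ha e₁ he₁
      exact ⟨e₂, he₂, by rw [q2, q1]; group⟩

/-- **`z` is not a square in `C(L)`.** -/
theorem no_root {g : G} (hsL : g * z * g⁻¹ ∈ L) (hs : g * z * g⁻¹ ≠ z)
    (hu : ∀ v : G, (∀ l ∈ L, v * l = l * v) → v * v = 1 → v = 1 ∨ v = z)
    {y : G} (hy : ∀ l ∈ L, y * l = l * y) : y * y ≠ z := by
  intro hyy
  have hz2 := zz h
  have hz1 := zne h
  have LL := h.cov.lift
  obtain ⟨s, hsdef⟩ : ∃ s, s = g * z * g⁻¹ := ⟨_, rfl⟩
  rw [← hsdef] at hsL hs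
  have hsz : s * z = z * s := zL h s hsL
  have hss : s * s = 1 := by
    rw [hsdef]
    calc g * z * g⁻¹ * (g * z * g⁻¹) = g * (z * z) * g⁻¹ := by group
      _ = 1 := by rw [hz2]; group
  have hys : y * s = s * y := hy s hsL
  -- `y₁ = g⁻¹ y g` commutes with `z`
  have comz : ∀ {x : G}, x * s = s * x → g⁻¹ * x * g * z = z * (g⁻¹ * x * g) := by
    intro x hx
    calc g⁻¹ * x * g * z = g⁻¹ * (x * (g * z * g⁻¹)) * g := by group
      _ = g⁻¹ * (x * s) * g := by rw [← hsdef]
      _ = g⁻¹ * (g * z * g⁻¹ * x) * g := by rw [hx, hsdef]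
      _ = _ := by group
  have ht1 : (g⁻¹ * y * g) * (g⁻¹ * y * g) = g⁻¹ * z * g := by rw [← hyy]; group
  have ht1e : Ev D (g⁻¹ * z * g) := by
    rw [← ht1]
    rcases ev_or_od h (comz hys) with h1 | h1
    · exact h1.mul h1
    · exact Od.mul h (comz hys) h1 h1
  have ht1z : g⁻¹ * z * g * z = z * (g⁻¹ * z * g) := comz hsz.symm
  have ht1n : g⁻¹ * z * g ≠ z := by
    intro h1
    apply hs
    rw [hsdef]
    calc g * z * g⁻¹ = g * (g⁻¹ * z * g) * g⁻¹ := by rw [h1]
      _ = z := by group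
  have hginv : g⁻¹ * z * g⁻¹⁻¹ = g⁻¹ * z * g := by group
  have ht1L : g⁻¹ * z * g ∈ L := by
    have := mem_of_ev h hT hZ (g := g⁻¹) (by rw [hginv]; exact ht1n) (by rw [hginv]; exact ht1z)
      (by rw [hginv]; exact ht1e)
    rwa [hginv] at this
  -- `y' = g y g⁻¹`
  obtain ⟨y', hy'⟩ : ∃ y', y' = g * y * g⁻¹ := ⟨_, rfl⟩
  have hy'2 : y' * y' = s := by rw [hy', hsdef, ← hyy]; group
  have hy'L : ∀ w : G, g⁻¹ * w * g ∈ L → y' * w = w * y' := by
    intro w hw
    calc y' * w = g * (y * (g⁻¹ * w * g)) * g⁻¹ := by rw [hy']; group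
      _ = g * (g⁻¹ * w * g * y) * g⁻¹ := by rw [hy _ hw]
      _ = _ := by rw [hy']; group
  have hy'z : y' * z = z * y' := hy'L z ht1L
  -- the even involutions
  have EL : ∀ w : G, w * w = 1 → w * s = s * w → Ev D (g⁻¹ * w * g) → y' * w = w * y' := by
    intro w hww hws he
    obtain ⟨l, hl, k, hk, hlk⟩ := ev_inner h (comz hws) he
    have h1 : l * k * (l * k) = 1 := by
      rw [← hlk]
      calc g⁻¹ * w * g * (g⁻¹ * w * g) = g⁻¹ * (w * w) * g := by group
        _ = 1 := by rw [hww]; group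
    obtain ⟨h2, h3⟩ := split_sq h hT hZ hl hk h1
    apply hy'L
    rw [hlk]
    rcases hu k hk h3 with rfl | rfl
    · rw [mul_one]; exact hl
    · exact L.mul_mem hl h.zL
  -- the form of `s`
  obtain ⟨S, hS⟩ : ∃ S : L, S = ⟨s, hsL⟩ := ⟨_, rfl⟩
  have hSs : (S : G) = s := by rw [hS]
  have hφss : φ S * φ S = 1 := by
    rw [← map_mul]
    have : S * S = 1 := Subtype.ext (by
      show (S : G) * S = 1
      rw [hSs, hss])
    rw [this, map_one]
  have hφs1 : φ S ≠ 1 := by
    intro h1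
    rcases (LL.ext.ker S).1 h1 with h2 | h2
    · have : s = 1 := by rw [← hSs, h2]; rfl
      rw [this] at hsdef
      apply hz1
      calc z = g⁻¹ * (g * z * g⁻¹) * g := by group
        _ = 1 := by rw [← hsdef]; group
    · exact hs (by rw [← hSs, h2])
  obtain ⟨x, y₀, w, ht, hform⟩ := exists_form hT hφss hφs1
  -- members of `D` commuting with the triple commute with `s`
  have hDs : ∀ d ∈ D, φ d * x = x * φ d → φ d * y₀ = y₀ * φ d → φ d * w = w * φ d →
      (d : G) * s = s * d := by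
    intro d hd h1 h2 h3
    obtain ⟨x', hx', rfl⟩ := LL.surj x ht.mx
    obtain ⟨y'', hy'', rfl⟩ := LL.surj y₀ ht.my
    obtain ⟨w', hw', rfl⟩ := LL.surj w ht.mw
    have k1 := LL.comm d hd x' hx' h1
    have k2 := LL.comm d hd y'' hy'' h2
    have k3 := LL.comm d hd w' hw' h3
    have k4 : d * (x' * y'') = x' * y'' * d := by
      rw [← mul_assoc, k1, mul_assoc, k2, mul_assoc]
    have k5 : d * (x' * y'' * w') = x' * y'' * w' * d := by
      calc d * (x' * y'' * w') = d * (x' * y'') * w' := by group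
        _ = x' * y'' * (d * w') := by rw [k4]; group
        _ = _ := by rw [k3]; group
    have k0 : ∀ a : L, φ S = φ a → d * a = a * d → d * S = S * d := by
      intro a ha hda
      rcases LL.ext.map_eq.1 ha with h4 | h4
      · rw [h4, hda]
      · rw [h4, ← mul_assoc, hda, mul_assoc, LL.ext.comm, ← mul_assoc]
    have k6 : d * S = S * d := by
      rcases hform with h4 | h4 | h4
      · exact k0 x' h4 k1
      · exact k0 _ (by rw [map_mul]; exact h4) k4
      · exact k0 _ (by rw [map_mul, map_mul]; exact h4) k5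
    have := congrArg Subtype.val k6
    rw [← hSs]
    exact this
  have hsqD : ∀ d ∈ D, (d : G) * d = 1 := fun d hd => congrArg Subtype.val (LL.sq d hd)
  -- some member of `D` commutes with `y'`
  have hfix : ∃ d ∈ D, y' * (d : G) = d * y' := by
    obtain ⟨l, hlodd, hl, hlc, hlp⟩ := hT.hept x y₀ w ht
    obtain ⟨m, hm, hml⟩ := CLev.exists_list LL l fun a ha => (hl a ha).1
    have hmem : ∀ d ∈ m, φ d ∈ l := fun d hd => by rw [← hml]; exact List.mem_map_of_mem hd
    have hms : ∀ d ∈ m, (d : G) * s = s * d := fun d hd =>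
      hDs d (hm d hd) (hl _ (hmem d hd)).2.1 (hl _ (hmem d hd)).2.2.1 (hl _ (hmem d hd)).2.2.2
    by_contra hcon
    push Not at hcon
    have hodd : ∀ d ∈ m, Od z D (g⁻¹ * d * g) := by
      intro d hd
      rcases ev_or_od h (comz (hms d hd)) with h1 | h1
      · exact absurd (EL d (hsqD d (hm d hd)) (hms d hd) h1) (hcon d (hm d hd))
      · exact h1
    have hlen : Odd (m.map (Subtype.val : L → G)).length := by
      rw [List.length_map, ← List.length_map (f := φ), hml]
      exact hlodd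
    have h1 := (odd_list h hT hZ g (m.map (Subtype.val : L → G)) (by
      intro a ha
      obtain ⟨d, hd, rfl⟩ := List.mem_map.1 ha
      exact comz (hms d hd)) (by
      intro a ha
      obtain ⟨d, hd, rfl⟩ := List.mem_map.1 ha
      exact hodd d hd)).2 hlen
    have h2 : (m.map (Subtype.val : L → G)).prod = ((m.prod : L) : G) := by
      rw [show (Subtype.val : L → G) = L.subtype from rfl, ← map_list_prod]
    rw [h2] at h1
    have h3 : φ m.prod = 1 := by rw [map_list_prod, hml, hlp]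
    rcases (LL.ext.ker _).1 h3 with h4 | h4
    · rw [h4] at h1
      have e : g⁻¹ * ((1 : L) : G) * g = 1 := by
        rw [Subgroup.coe_one]; group
      rw [e] at h1
      exact not_both h hT (ev_of_mem h L.one_mem) h1
    · rw [h4] at h1
      exact not_both h hT ht1e h1
  obtain ⟨d₀, hd₀, hd₀y⟩ := hfix
  have hy'e : Ev D y' := by
    rcases ev_or_od h hy'z with h1 | h1
    · exact h1
    · exact absurd h1 (not_od h hd₀ hd₀y)
  obtain ⟨l, hl, k, hk, hlk⟩ := ev_inner h hy'z hy'e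
  obtain ⟨l', hl'⟩ : ∃ l' : L, l' = ⟨l, hl⟩ := ⟨_, rfl⟩
  have hl'G : (l' : G) = l := by rw [hl']
  -- `y'` commutes with `a ∈ L` iff `l` does
  have hyl : ∀ a : L, y' * (a : G) = a * y' → φ l' * φ a = φ a * φ l' := by
    intro a ha
    rw [← map_mul, ← map_mul]
    congr 1
    apply Subtype.ext
    show (l' : G) * a = a * l'
    rw [hl'G]
    have h1 : l * k * (a : G) = a * (l * k) := by rw [← hlk]; exact ha
    have h2 : l * a * k = a * l * k := by
      calc l * a * k = l * (a * k) := by group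
        _ = l * (k * a) := by rw [hk a a.2]
        _ = l * k * a := by group
        _ = _ := by rw [h1]; group
    exact mul_right_cancel h2
  have hsq : φ l' * φ l' = φ S := by
    have h1 : s = (l * l) * (k * k) := by
      rw [← hy'2, hlk]
      calc l * k * (l * k) = l * (k * l) * k := by group
        _ = l * (l * k) * k := by rw [hk l hl]
        _ = _ := by group
    have h2 : k * k = (l * l)⁻¹ * s := by rw [h1]; group
    have h3 : k * k ∈ L := by
      rw [h2]
      exact L.mul_mem (L.inv_mem (L.mul_mem hl hl)) hsL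
    have hkk : ∀ x ∈ L, (k * k) * x = x * (k * k) := by
      intro x hx
      have h5 : Commute k x := hk x hx
      exact (h5.mul_left h5).eq
    have h4 : φ (⟨k * k, h3⟩ : L) = 1 := by
      rcases mem_center h hZ h3 hkk with h5 | h5
      · have : (⟨k * k, h3⟩ : L) = 1 := Subtype.ext h5
        rw [this, map_one]
      · have : (⟨k * k, h3⟩ : L) = ⟨z, h.zL⟩ := Subtype.ext h5
        rw [this, LL.ext.mapz]
    have h5 : S = l' * l' * ⟨k * k, h3⟩ := Subtype.ext (by
      show (S : G) = (l' : G) * l' * (k * k)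
      rw [hSs, hl'G]
      exact h1)
    rw [h5, map_mul, map_mul, h4, mul_one]
  -- the contradiction
  have hroot := hT.noroot x y₀ w ht (φ l') (by
    intro a ha b hb hab cab ax ay aw bx bY bw na nb
    obtain ⟨d₁, hd₁, rfl⟩ := LL.surj a ha
    obtain ⟨d₂, hd₂, rfl⟩ := LL.surj b hb
    have s1 := hDs d₁ hd₁ ax ay aw
    have s2 := hDs d₂ hd₂ bx bY bw
    have o1 : Od z D (g⁻¹ * d₁ * g) := by
      rcases ev_or_od h (comz s1) with h1 | h1
      · exact absurd (hyl d₁ (EL d₁ (hsqD d₁ hd₁) s1 h1)) na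
      · exact h1
    have o2 : Od z D (g⁻¹ * d₂ * g) := by
      rcases ev_or_od h (comz s2) with h1 | h1
      · exact absurd (hyl d₂ (EL d₂ (hsqD d₂ hd₂) s2 h1)) nb
      · exact h1
    have cG : (d₁ : G) * d₂ = d₂ * d₁ := congrArg Subtype.val (LL.comm d₁ hd₁ d₂ hd₂ cab)
    have e1 : Ev D (g⁻¹ * (d₁ * d₂) * g) := by
      have := Od.mul h (comz s1) o1 o2
      have e : g⁻¹ * (d₁ * d₂ : G) * g = g⁻¹ * d₁ * g * (g⁻¹ * d₂ * g) := by group
      rw [e]; exact this
    have e2 : (d₁ * d₂ : G) * (d₁ * d₂) = 1 := by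
      calc (d₁ * d₂ : G) * (d₁ * d₂) = d₁ * (d₂ * d₁) * d₂ := by group
        _ = d₁ * (d₁ * d₂) * d₂ := by rw [cG]
        _ = (d₁ * d₁) * (d₂ * d₂) := by group
        _ = 1 := by rw [hsqD d₁ hd₁, hsqD d₂ hd₂, mul_one]
    have e3 : (d₁ * d₂ : G) * s = s * (d₁ * d₂) := by
      rw [mul_assoc, s2, ← mul_assoc, s1, mul_assoc]
    have e4 := hyl (d₁ * d₂) (EL (d₁ * d₂ : G) e2 e3 e1)
    rw [map_mul] at e4
    -- `h a h⁻¹ * h b h⁻¹ = a b`
    have e5 : (φ d₁ * φ d₂ : P) = φ l' * φ d₁ * (φ l')⁻¹ * (φ l' * φ d₂ * (φ l')⁻¹) := by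
      calc φ d₁ * φ d₂ = φ d₁ * φ d₂ * φ l' * (φ l')⁻¹ := by group
        _ = φ l' * (φ d₁ * φ d₂) * (φ l')⁻¹ := by rw [e4]
        _ = _ := by group
    rcases hT.uniq _ ha _ hb _ (hT.tf.conj (φ l') _ ha) _ (hT.tf.conj (φ l') _ hb) hab cab (by
      calc φ l' * φ d₁ * (φ l')⁻¹ * (φ l' * φ d₂ * (φ l')⁻¹) = φ l' * (φ d₁ * φ d₂) * (φ l')⁻¹ := by group
        _ = φ l' * (φ d₂ * φ d₁) * (φ l')⁻¹ := by rw [cab]
        _ = _ := by group) e5 with h6 | h6
    · exfalso
      apply na
      calc φ l' * φ d₁ = φ l' * φ d₁ * (φ l')⁻¹ * φ l' := by group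
        _ = φ d₁ * φ l' := by rw [h6]
    · exact h6)
  rw [hsq] at hroot
  rcases hform with h1 | h1 | h1
  · exact hroot.1 h1
  · exact hroot.2.1 h1
  · exact hroot.2.2 h1

end red

end Cfsg.Agent.StdFi22.GLev
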