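import Cfsg.Agent.StdFi22.CLev

/-!
# The reduction in `G`, first part

`r1`, `r2` and the parity of the elements of `C(z)`.
-/

set_option autoImplicit false
set_option linter.unusedSectionVars false

namespace Cfsg.Agent.StdFi22.GLev

open Cfsg Cfsg.Agent.R01.Lifts Cfsg.Agent.R01.FiFusion Cfsg.Agent.R01.FiFacts Cfsg.Agent.R01.FiHexad

variable {G P : Type*} [Group G] [Group P] {z : G} {L : Subgroup G} {φ : L →* P} {T : Set P}
  {D : Set L}

/-- Even elements. -/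
def Ev (D : Set L) (g : G) : Prop := ∀ d ∈ D, ∃ e ∈ D, (e : G) = g * d * g⁻¹

/-- Odd elements. -/
def Od (z : G) (D : Set L) (g : G) : Prop := ∀ d ∈ D, ∃ e ∈ D, (e : G) = g * d * g⁻¹ * z

theorem conj_inv_comm {g : G} (hg : g * z = z * g) : g⁻¹ * z = z * g⁻¹ := by
  have h : Commute g z := hg
  exact h.inv_left.eq

theorem Ev.mul {a b : G} (ha : Ev D a) (hb : Ev D b) : Ev D (a * b) := by
  intro d hd
  obtain ⟨e, he, h1⟩ := hb d hd
  obtain ⟨f, hf, h2⟩ := ha e he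
  exact ⟨f, hf, by rw [h2, h1]; group⟩

section red

variable (h : Red z L φ T D)
include h

theorem zz : z * z = 1 := congrArg Subtype.val h.cov.lift.ext.zz

theorem zne : z ≠ 1 := fun e => h.cov.lift.ext.zne (Subtype.ext e)

theorem zL (l : G) (hl : l ∈ L) : l * z = z * l :=
  congrArg Subtype.val (h.cov.lift.ext.comm ⟨l, hl⟩)

theorem Od.mul {a b : G} (haz : a * z = z * a) (ha : Od z D a) (hb : Od z D b) :
    Ev D (a * b) := by
  intro d hd
  obtain ⟨e, he, h1⟩ := hb d hd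
  obtain ⟨f, hf, h2⟩ := ha e he
  refine ⟨f, hf, ?_⟩
  rw [h2, h1]
  calc a * (b * d * b⁻¹ * z) * a⁻¹ * z = a * (b * d * b⁻¹) * (z * a⁻¹) * z := by group
    _ = a * (b * d * b⁻¹) * (a⁻¹ * z) * z := by rw [conj_inv_comm haz]
    _ = a * (b * d * b⁻¹) * a⁻¹ * (z * z) := by group
    _ = _ := by rw [zz h]; group

theorem Ev.mul_od {a b : G} (haz : a * z = z * a) (ha : Ev D a) (hb : Od z D b) :
    Od z D (a * b) := by
  intro d hd
  obtain ⟨e, he, h1⟩ := hb d hd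
  obtain ⟨f, hf, h2⟩ := ha e he
  refine ⟨f, hf, ?_⟩
  rw [h2, h1]
  calc a * (b * d * b⁻¹ * z) * a⁻¹ = a * (b * d * b⁻¹) * (z * a⁻¹) := by group
    _ = a * (b * d * b⁻¹) * (a⁻¹ * z) := by rw [conj_inv_comm haz]
    _ = _ := by group

/-- Conjugation by an element of `C(z)`. -/
def cj (g : G) (hg : g * z = z * g) : L ≃* L where
  toFun x := ⟨g * x * g⁻¹, h.norm g hg x x.2⟩
  invFun x := ⟨g⁻¹ * x * g⁻¹⁻¹, h.norm g⁻¹ (conj_inv_comm hg) x x.2⟩
  left_inv x := Subtype.ext (by show g⁻¹ * (g * x * g⁻¹) * g⁻¹⁻¹ = x; group)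
  right_inv x := Subtype.ext (by show g * (g⁻¹ * x * g⁻¹⁻¹) * g⁻¹ = x; group)
  map_mul' x y := Subtype.ext (by
    show g * (x * y : G) * g⁻¹ = g * x * g⁻¹ * (g * y * g⁻¹); group)

theorem coe_cj (g : G) (hg : g * z = z * g) (x : L) : (cj h g hg x : G) = g * x * g⁻¹ := rfl

theorem cj_z (g : G) (hg : g * z = z * g) : cj h g hg ⟨z, h.zL⟩ = ⟨z, h.zL⟩ :=
  Subtype.ext (by show g * z * g⁻¹ = z; rw [hg, mul_inv_cancel_right])

theorem ev_or_od {g : G} (hg : g * z = z * g) : Ev D g ∨ Od z D g := by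
  rcases h.cov.cases (cj h g hg) (cj_z h g hg) with h1 | h1
  · left
    intro d hd
    exact ⟨_, h1 d hd, rfl⟩
  · right
    intro d hd
    exact ⟨_, h1 d hd, rfl⟩

theorem ev_of_mem {g : G} (hg : g ∈ L) : Ev D g := by
  intro d hd
  exact ⟨_, h.cov.lift.conj ⟨g, hg⟩ d hd, rfl⟩

theorem ev_z : Ev D z := ev_of_mem h h.zL

theorem not_both (hT : TP T) {g : G} (h1 : Ev D g) (h2 : Od z D g) : False := by
  obtain ⟨x, y, w, w', hx, -⟩ := hT.tf.four
  obtain ⟨d, hd, -⟩ := h.cov.lift.surj x hx.mx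
  obtain ⟨e, he, e1⟩ := h1 d hd
  obtain ⟨f, hf, e2⟩ := h2 d hd
  rw [← e1] at e2
  apply h.cov.lift.nz e he
  have : e * ⟨z, h.zL⟩ = f := Subtype.ext e2.symm
  rw [this]
  exact hf

/-- An element commuting with a member of `D` is not odd. -/
theorem not_od {g : G} {d : L} (hd : d ∈ D) (hgd : g * d = d * g) : ¬ Od z D g := by
  intro h2
  obtain ⟨f, hf, e2⟩ := h2 d hd
  rw [hgd, mul_inv_cancel_right] at e2
  apply h.cov.lift.nz d hd
  have : d * ⟨z, h.zL⟩ = f := Subtype.ext e2.symm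
  rw [this]
  exact hf

/-- Even elements of `C(z)` are inner up to `C(L)`. -/
theorem ev_inner {g : G} (hg : g * z = z * g) (he : Ev D g) :
    ∃ l ∈ L, ∃ k : G, (∀ x ∈ L, k * x = x * k) ∧ g = l * k := by
  obtain ⟨c, hc⟩ := h.cov.inner (cj h g hg) (by
    intro d hd
    obtain ⟨e, he, h1⟩ := he d hd
    have : cj h g hg d = e := Subtype.ext h1.symm
    rw [this]
    exact he)
  refine ⟨c, c.2, (c : G)⁻¹ * g, ?_, by group⟩
  intro x hx
  have h1 : g * x * g⁻¹ = c * x * (c : G)⁻¹ := congrArg Subtype.val (hc ⟨x, hx⟩)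
  calc (c : G)⁻¹ * g * x = (c : G)⁻¹ * (g * x * g⁻¹) * g := by group
    _ = (c : G)⁻¹ * (c * x * (c : G)⁻¹) * g := by rw [h1]
    _ = _ := by group

theorem mem_center (hZ : ∀ f : P, (∀ x, f * x = x * f) → f = 1) {k : G} (hk : k ∈ L)
    (hc : ∀ x ∈ L, k * x = x * k) : k = 1 ∨ k = z := by
  have h1 : φ ⟨k, hk⟩ = 1 := by
    apply hZ
    intro x
    obtain ⟨y, rfl⟩ := h.cov.lift.ext.surj x
    rw [← map_mul, ← map_mul]
    congr 1
    exact Subtype.ext (hc y y.2)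
  rcases (h.cov.lift.ext.ker _).1 h1 with h2 | h2
  · exact Or.inl (congrArg Subtype.val h2)
  · exact Or.inr (congrArg Subtype.val h2)

theorem hns {l : G} (hl : l ∈ L) : l * l ≠ z := fun e =>
  h.cov.hns ⟨l, hl⟩ (Subtype.ext e)

/-- The main application of FACT 1. -/
theorem r1 (hT : TP T) (hZ : ∀ f : P, (∀ x, f * x = x * f) → f = 1) {g v : G}
    (hs : g * z * g⁻¹ ≠ z) (hsz : g * z * g⁻¹ * z = z * (g * z * g⁻¹))
    (hv : ∀ l ∈ L, v * l = l * v) (hvv : v * v = 1) (hv1 : v ≠ 1) (hvz : v ≠ z)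
    (hvs : v * (g * z * g⁻¹) = g * z * g⁻¹ * v) : False := by
  have hz2 := zz h
  have hvcz : v * z = z * v := hv z h.zL
  have hv1z : (g⁻¹ * v * g) * z = z * (g⁻¹ * v * g) := by
    calc (g⁻¹ * v * g) * z = g⁻¹ * (v * (g * z * g⁻¹)) * g := by group
      _ = g⁻¹ * (g * z * g⁻¹ * v) * g := by rw [hvs]
      _ = _ := by group
  have ht1z : (g⁻¹ * z * g) * z = z * (g⁻¹ * z * g) := by
    calc (g⁻¹ * z * g) * z = g⁻¹ * (z * (g * z * g⁻¹)) * g := by group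
      _ = g⁻¹ * (g * z * g⁻¹ * z) * g := by rw [hsz]
      _ = _ := by group
  have hsq : ∀ a : G, a * a = 1 → ∀ x : G, (g⁻¹ * a * g) * ((g⁻¹ * a * g) * x * (g⁻¹ * a * g)⁻¹) *
      (g⁻¹ * a * g)⁻¹ = x := by
    intro a ha x
    have h1 : (g⁻¹ * a * g) * (g⁻¹ * a * g) = 1 := by
      calc (g⁻¹ * a * g) * (g⁻¹ * a * g) = g⁻¹ * (a * a) * g := by group
        _ = 1 := by rw [ha]; group
    calc _ = ((g⁻¹ * a * g) * (g⁻¹ * a * g)) * x * ((g⁻¹ * a * g) * (g⁻¹ * a * g))⁻¹ := by group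
      _ = x := by rw [h1]; group
  -- elements of `L` commuting with `g⁻¹ a g` for an involution `a` of `C(L)`
  have key : ∀ a : G, (∀ l ∈ L, a * l = l * a) → a * a = 1 → a ≠ 1 → ∀ x : L,
      (g⁻¹ * a * g) * x * (g⁻¹ * a * g)⁻¹ = x → (g⁻¹ * z * g) * x * (g⁻¹ * z * g)⁻¹ = x := by
    intro a ha haa ha1 x hx
    have h1 : (g * x * g⁻¹) * a = a * (g * x * g⁻¹) := by
      calc (g * x * g⁻¹) * a = g * (x * (g⁻¹ * a * g)) * g⁻¹ := by group
        _ = g * ((g⁻¹ * a * g) * x * (g⁻¹ * a * g)⁻¹ * (g⁻¹ * a * g)) * g⁻¹ := by rw [hx]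
        _ = _ := by group
    have h2 := h.tight a ha haa ha1 (g * x * g⁻¹) (by
      intro l hl
      rw [h1, mul_inv_cancel_right]
      exact ha l hl)
    calc (g⁻¹ * z * g) * x * (g⁻¹ * z * g)⁻¹ = g⁻¹ * (z * (g * x * g⁻¹)) * z⁻¹ * g := by group
      _ = g⁻¹ * ((g * x * g⁻¹) * z) * z⁻¹ * g := by rw [h2]
      _ = x := by group
  have hvz2 : v * z * (v * z) = 1 := by
    calc v * z * (v * z) = v * (z * v) * z := by group
      _ = v * (v * z) * z := by rw [hvcz]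
      _ = (v * v) * (z * z) := by group
      _ = 1 := by rw [hvv, hz2, mul_one]
  have hvz1 : v * z ≠ 1 := by
    intro h1
    apply hvz
    rw [mul_eq_one_iff_eq_inv.1 h1]
    exact inv_eq_of_mul_eq_one_left hz2
  have hvzL : ∀ l ∈ L, v * z * l = l * (v * z) := by
    intro l hl
    calc v * z * l = v * (z * l) := by group
      _ = v * (l * z) := by rw [zL h l hl]
      _ = (v * l) * z := by group
      _ = _ := by rw [hv l hl]; group
  have hf := CLev.fact1 hT h.cov hZ (cj h _ hv1z) (cj h _ ht1z)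
    (fun x => Subtype.ext (hsq v hvv x)) (fun x => Subtype.ext (hsq z hz2 x))
    (fun x => Subtype.ext (by
      show (g⁻¹ * v * g) * ((g⁻¹ * z * g) * x * (g⁻¹ * z * g)⁻¹) * (g⁻¹ * v * g)⁻¹ =
        (g⁻¹ * z * g) * ((g⁻¹ * v * g) * x * (g⁻¹ * v * g)⁻¹) * (g⁻¹ * z * g)⁻¹
      calc _ = g⁻¹ * (v * z) * g * x * (g⁻¹ * (v * z) * g)⁻¹ := by group
        _ = g⁻¹ * (z * v) * g * x * (g⁻¹ * (z * v) * g)⁻¹ := by rw [hvcz]
        _ = _ := by group))
    (cj_z h _ hv1z) (cj_z h _ ht1z)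
    (fun x hx => Subtype.ext (key v hv hvv hv1 x (congrArg Subtype.val hx)))
    (fun x hx => Subtype.ext (key (v * z) hvzL hvz2 hvz1 x (by
      have h1 : (g⁻¹ * v * g) * ((g⁻¹ * z * g) * x * (g⁻¹ * z * g)⁻¹) * (g⁻¹ * v * g)⁻¹ = x :=
        congrArg Subtype.val hx
      rw [← h1]
      conv_rhs => rw [← h1]
      group
      )))
  -- `g⁻¹ z g` centralises `L`
  have h3 : ∀ l ∈ L, g⁻¹ * z * g⁻¹⁻¹ * l = l * (g⁻¹ * z * g⁻¹⁻¹) := by
    intro l hl
    have h4 : (g⁻¹ * z * g) * l * (g⁻¹ * z * g)⁻¹ = l := congrArg Subtype.val (hf ⟨l, hl⟩)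
    calc g⁻¹ * z * g⁻¹⁻¹ * l = (g⁻¹ * z * g) * l * (g⁻¹ * z * g)⁻¹ * (g⁻¹ * z * g) := by group
      _ = l * (g⁻¹ * z * g) := by rw [h4]
      _ = _ := by group
  have h5 := h.tight z (fun l hl => (zL h l hl).symm) hz2 (zne h) g⁻¹ h3
  apply hs
  calc g * z * g⁻¹ = g * (g⁻¹ * z) := by rw [h5]; group
    _ = z := by group

end red

end Cfsg.Agent.StdFi22.GLev
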