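import Cfsg.Agent.StdFi22.GLev

/-!
# The reduction in `G`, second part

The conjugates of `z` in `C(z)` lie in `L` or are odd (`r2`), and there is one in `L` (`fused`).
-/

set_option autoImplicit false
set_option linter.unusedSectionVars false

namespace Cfsg.Agent.StdFi22.GLev

open Cfsg Cfsg.Agent.R01.Lifts Cfsg.Agent.R01.FiFusion Cfsg.Agent.R01.FiFacts Cfsg.Agent.R01.FiHexad

variable {G P : Type*} [Group G] [Group P] {z : G} {L : Subgroup G} {φ : L →* P} {T : Set P}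
  {D : Set L}

section red

variable (h : Red z L φ T D) (hT : TP T) (hZ : ∀ f : P, (∀ x, f * x = x * f) → f = 1)
include h hT hZ

/-- An involution `l k` with `l ∈ L`, `k ∈ C(L)`. -/
theorem split_sq {l k : G} (hl : l ∈ L) (hk : ∀ x ∈ L, k * x = x * k)
    (h1 : l * k * (l * k) = 1) : l * l = 1 ∧ k * k = 1 := by
  have h2 : (l * l) * (k * k) = 1 := by
    rw [← h1]
    calc (l * l) * (k * k) = l * (l * k) * k := by group
      _ = l * (k * l) * k := by rw [hk l hl]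
      _ = _ := by group
  have h3 : l * l = 1 := by
    have hll : l * l ∈ L := L.mul_mem hl hl
    have h4 : l * l = (k * k)⁻¹ := eq_inv_of_mul_eq_one_left h2
    rcases mem_center h hZ hll (by
      intro x hx
      rw [h4]
      have h5 : Commute k x := hk x hx
      exact (h5.mul_left h5).inv_left.eq) with h5 | h5
    · exact h5
    · exact absurd h5 (hns h hl)
  rw [h3, one_mul] at h2
  exact ⟨h3, h2⟩

/-- A conjugate of `z` in `L C(L)` lies in `L`. -/
theorem r2 {g l k : G} (hs : g * z * g⁻¹ ≠ z) (hl : l ∈ L) (hk : ∀ x ∈ L, k * x = x * k)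
    (hlk : g * z * g⁻¹ = l * k) : g * z * g⁻¹ ∈ L := by
  have hz2 := zz h
  have hss : l * k * (l * k) = 1 := by
    rw [← hlk]
    calc g * z * g⁻¹ * (g * z * g⁻¹) = g * (z * z) * g⁻¹ := by group
      _ = 1 := by rw [hz2]; group
  obtain ⟨h3, h4⟩ := split_sq h hT hZ hl hk hss
  have hkz : k * z = z * k := hk z h.zL
  have hsz : g * z * g⁻¹ * z = z * (g * z * g⁻¹) := by
    rw [hlk]
    calc l * k * z = l * (k * z) := by group
      _ = l * (z * k) := by rw [hkz]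
      _ = (l * z) * k := by group
      _ = z * (l * k) := by rw [zL h l hl]; group
  by_cases hk1 : k = 1
  · rw [hlk, hk1, mul_one]; exact hl
  by_cases hk2 : k = z
  · rw [hlk, hk2]; exact L.mul_mem hl h.zL
  exact (r1 h hT hZ hs hsz hk h4 hk1 hk2 (by
    rw [hlk]
    calc k * (l * k) = (k * l) * k := by group
      _ = _ := by rw [hk l hl])).elim

/-- An even conjugate of `z` in `C(z)` lies in `L`. -/
theorem mem_of_ev {g : G} (hs : g * z * g⁻¹ ≠ z) (hsz : g * z * g⁻¹ * z = z * (g * z * g⁻¹))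
    (he : Ev D (g * z * g⁻¹)) : g * z * g⁻¹ ∈ L := by
  obtain ⟨l, hl, k, hk, hlk⟩ := ev_inner h hsz he
  exact r2 h hT hZ hs hl hk hlk

theorem conj_comm_iff (g a b : G) : g⁻¹ * a * g * (g⁻¹ * b * g) = g⁻¹ * b * g * (g⁻¹ * a * g) ↔
    a * b = b * a := by
  constructor
  · intro h1
    calc a * b = g * (g⁻¹ * a * g * (g⁻¹ * b * g)) * g⁻¹ := by group
      _ = g * (g⁻¹ * b * g * (g⁻¹ * a * g)) * g⁻¹ := by rw [h1]
      _ = b * a := by group
  · intro h1
    calc g⁻¹ * a * g * (g⁻¹ * b * g) = g⁻¹ * (a * b) * g := by group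
      _ = g⁻¹ * (b * a) * g := by rw [h1]
      _ = _ := by group

/-- If all conjugates of `z` in `C(z)` are odd: a conjugate `a` of `z` commuting with the conjugate `g z g⁻¹`
and different from it is odd relative to `g`. -/
theorem odd_rel (hO : ∀ g : G, g * z * g⁻¹ ≠ z → g * z * g⁻¹ * z = z * (g * z * g⁻¹) →
      Od z D (g * z * g⁻¹)) {g k : G} (hne : k * z * k⁻¹ ≠ g * z * g⁻¹)
    (hc : k * z * k⁻¹ * (g * z * g⁻¹) = g * z * g⁻¹ * (k * z * k⁻¹)) :
    Od z D (g⁻¹ * (k * z * k⁻¹) * g) := by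
  have e : g⁻¹ * (k * z * k⁻¹) * g = (g⁻¹ * k) * z * (g⁻¹ * k)⁻¹ := by group
  have e2 : z = g⁻¹ * (g * z * g⁻¹) * g := by group
  rw [e]
  apply hO
  · intro h1
    apply hne
    rw [← e] at h1
    calc k * z * k⁻¹ = g * (g⁻¹ * (k * z * k⁻¹) * g) * g⁻¹ := by group
      _ = g * z * g⁻¹ := by rw [h1]
  · rw [← e]
    have h1 := (conj_comm_iff h hT hZ g _ _).2 hc
    rw [← e2] at h1
    exact h1

/-- Three conjugates of `z` with product one commuting with the conjugate `g z g⁻¹` and different from it are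
not all odd. -/
theorem no_three (hO : ∀ g : G, g * z * g⁻¹ ≠ z → g * z * g⁻¹ * z = z * (g * z * g⁻¹) →
      Od z D (g * z * g⁻¹)) {g a b c ε : G} (hε : ε = 1 ∨ ε = z)
    (ha : a * z * a⁻¹ ≠ g * z * g⁻¹) (hb : b * z * b⁻¹ ≠ g * z * g⁻¹)
    (hc : c * z * c⁻¹ ≠ g * z * g⁻¹)
    (ca : a * z * a⁻¹ * (g * z * g⁻¹) = g * z * g⁻¹ * (a * z * a⁻¹))
    (cb : b * z * b⁻¹ * (g * z * g⁻¹) = g * z * g⁻¹ * (b * z * b⁻¹))
    (cc : c * z * c⁻¹ * (g * z * g⁻¹) = g * z * g⁻¹ * (c * z * c⁻¹))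
    (hp : a * z * a⁻¹ * (b * z * b⁻¹) = c * z * c⁻¹ * (g * ε * g⁻¹)) : False := by
  have oa := odd_rel h hT hZ hO ha ca
  have ob := odd_rel h hT hZ hO hb cb
  have oc := odd_rel h hT hZ hO hc cc
  have comz : ∀ {x : G}, x * (g * z * g⁻¹) = g * z * g⁻¹ * x → g⁻¹ * x * g * z = z * (g⁻¹ * x * g) := by
    intro x hx
    calc g⁻¹ * x * g * z = g⁻¹ * (x * (g * z * g⁻¹)) * g := by group
      _ = g⁻¹ * (g * z * g⁻¹ * x) * g := by rw [hx]
      _ = _ := by group
  have h1 := Od.mul h (comz ca) oa ob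
  have hε2 : ε * ε = 1 := by
    rcases hε with rfl | rfl
    · exact mul_one 1
    · exact zz h
  have hεe : Ev D ε := by
    rcases hε with rfl | rfl
    · exact ev_of_mem h L.one_mem
    · exact ev_z h
  have e : g⁻¹ * (a * z * a⁻¹) * g * (g⁻¹ * (b * z * b⁻¹) * g) * ε = g⁻¹ * (c * z * c⁻¹) * g := by
    calc g⁻¹ * (a * z * a⁻¹) * g * (g⁻¹ * (b * z * b⁻¹) * g) * ε =
        g⁻¹ * (a * z * a⁻¹ * (b * z * b⁻¹)) * g * ε := by group
      _ = g⁻¹ * (c * z * c⁻¹ * (g * ε * g⁻¹)) * g * ε := by rw [hp]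
      _ = g⁻¹ * (c * z * c⁻¹) * g * (ε * ε) := by group
      _ = _ := by rw [hε2, mul_one]
  exact not_both h hT (h1.mul hεe) (by rw [e]; exact oc)

/-- **There is a conjugate of `z` in `L`.** The hypothesis `hI` follows from the Z*-theorem. -/
theorem fused (hI : ∀ σ : P ≃* P, (∀ x, σ (σ x) = x) → (∃ x, σ x ≠ x) →
      ∃ f : P, f * (σ f)⁻¹ ≠ 1 ∧ f * (σ f)⁻¹ * (f * (σ f)⁻¹) = 1)
    (hind : ∀ α : L ≃* L, α ⟨z, h.zL⟩ = ⟨z, h.zL⟩ → ∃ σ : P ≃* P, ∀ x, σ (φ x) = φ (α x)) :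
    ∃ g : G, g * z * g⁻¹ ∈ L ∧ g * z * g⁻¹ ≠ z := by
  by_contra hcon
  push Not at hcon
  have hO : ∀ g : G, g * z * g⁻¹ ≠ z → g * z * g⁻¹ * z = z * (g * z * g⁻¹) →
      Od z D (g * z * g⁻¹) := by
    intro g h1 h2
    rcases ev_or_od h h2 with h3 | h3
    · exact absurd (hcon g (mem_of_ev h hT hZ h1 h2 h3)) h1
    · exact h3
  have hz2 := zz h
  have hz1 := zne h
  obtain ⟨g₀, hs, hsz⟩ := h.exz
  obtain ⟨s, hsdef⟩ : ∃ s, s = g₀ * z * g₀⁻¹ := ⟨_, rfl⟩
  have hodd := hO g₀ hs hsz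
  rw [← hsdef] at hs hsz hodd
  have hss : s * s = 1 := by
    rw [hsdef]
    calc g₀ * z * g₀⁻¹ * (g₀ * z * g₀⁻¹) = g₀ * (z * z) * g₀⁻¹ := by group
      _ = 1 := by rw [hz2]; group
  have hsi : s⁻¹ = s := inv_eq_of_mul_eq_one_left hss
  have hzi : z⁻¹ = z := inv_eq_of_mul_eq_one_left hz2
  have hsL : s ∉ L := fun h1 => hs (by rw [hsdef] at h1 ⊢; exact hcon g₀ h1)
  have hα2 : ∀ x : L, cj h s hsz (cj h s hsz x) = x := fun x => Subtype.ext (by
    show s * (s * x * s⁻¹) * s⁻¹ = x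
    calc s * (s * x * s⁻¹) * s⁻¹ = (s * s) * x * (s * s)⁻¹ := by group
      _ = x := by rw [hss]; group)
  have ho : ∀ d ∈ D, cj h s hsz d * ⟨z, h.zL⟩ ∈ D := by
    intro d hd
    obtain ⟨e, he, h1⟩ := hodd d hd
    have : cj h s hsz d * ⟨z, h.zL⟩ = e := Subtype.ext h1.symm
    rw [this]
    exact he
  by_cases hno : ∀ d ∈ D, cj h s hsz d ≠ d * ⟨z, h.zL⟩
  · -- case (ii)
    obtain ⟨x, y, w, w', hx, -⟩ := hT.tf.four
    obtain ⟨d₁, hd₁, -⟩ := h.cov.lift.surj x hx.mx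
    obtain ⟨n1, c1⟩ := CLev.odd_pair h.cov hα2 (cj_z h s hsz) ho hno hd₁
    have hd₁' := ho d₁ hd₁
    obtain ⟨t, ht⟩ := hT.third _ (h.cov.lift.map _ hd₁) _ (h.cov.lift.map _ hd₁')
      (fun e => n1 (h.cov.lift.inj _ hd₁ _ hd₁' e)) ((CLev.comm_iff h.cov.lift hd₁ hd₁').1 c1)
    obtain ⟨d₂, hd₂, rfl⟩ := h.cov.lift.surj t ht.mw
    obtain ⟨n2, c2⟩ := CLev.odd_pair h.cov hα2 (cj_z h s hsz) ho hno hd₂
    have hd₂' := ho d₂ hd₂
    have htri := (CLev.tri_iff h.cov.lift hd₁ hd₁' hd₂).2 ht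
    -- in `G`
    have q1 : (d₁ : G) * d₁ = 1 := congrArg Subtype.val (h.cov.lift.sq d₁ hd₁)
    have q2 : (d₂ : G) * d₂ = 1 := congrArg Subtype.val (h.cov.lift.sq d₂ hd₂)
    obtain ⟨e₁, he₁⟩ : ∃ e : G, e = s * d₁ * s⁻¹ := ⟨_, rfl⟩
    obtain ⟨e₂, he₂⟩ : ∃ e : G, e = s * d₂ * s⁻¹ := ⟨_, rfl⟩
    have he₁z : e₁ * z = z * e₁ := by
      rw [he₁]; exact (zL h _ (h.norm s hsz _ d₁.2))
    have he₂z : e₂ * z = z * e₂ := by
      rw [he₂]; exact (zL h _ (h.norm s hsz _ d₂.2))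
    have r1' : s * e₁ * s⁻¹ = d₁ := by
      rw [he₁]; exact congrArg Subtype.val (hα2 d₁)
    have r2' : s * e₂ * s⁻¹ = d₂ := by
      rw [he₂]; exact congrArg Subtype.val (hα2 d₂)
    have p1 : e₁ * e₁ = 1 := by
      rw [he₁]
      calc s * d₁ * s⁻¹ * (s * d₁ * s⁻¹) = s * (d₁ * d₁) * s⁻¹ := by group
        _ = 1 := by rw [q1]; group
    have p2 : e₂ * e₂ = 1 := by
      rw [he₂]
      calc s * d₂ * s⁻¹ * (s * d₂ * s⁻¹) = s * (d₂ * d₂) * s⁻¹ := by group
        _ = 1 := by rw [q2]; group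
    -- cancel `z`
    have cz : ∀ a b : G, a * (b * z) = b * z * a → a * z = z * a → a * b = b * a := by
      intro a b h1 h2
      have h3 : a * b * z = b * a * z := by
        calc a * b * z = a * (b * z) := by group
          _ = b * z * a := h1
          _ = b * (a * z) := by rw [h2]; group
          _ = _ := by group
      exact mul_right_cancel h3
    have k1 : (d₁ : G) * e₁ = e₁ * d₁ := cz _ _ (by
      have := congrArg Subtype.val c1
      rw [he₁]
      exact this) (zL h _ d₁.2)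
    have k2 : (d₂ : G) * e₂ = e₂ * d₂ := cz _ _ (by
      have := congrArg Subtype.val c2
      rw [he₂]
      exact this) (zL h _ d₂.2)
    have k3 : (d₁ : G) * d₂ = d₂ * d₁ := congrArg Subtype.val htri.cxw
    have k4 : (d₂ : G) * e₁ = e₁ * d₂ := cz _ _ (by
      have := congrArg Subtype.val htri.cyw
      rw [he₁]
      exact this.symm) (zL h _ d₂.2)
    have k5 : (d₁ : G) * e₂ = e₂ * d₁ := by
      rw [← r1', he₂]
      calc s * e₁ * s⁻¹ * (s * d₂ * s⁻¹) = s * (e₁ * d₂) * s⁻¹ := by group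
        _ = s * (d₂ * e₁) * s⁻¹ := by rw [k4]
        _ = _ := by group
    have k6 : e₁ * e₂ = e₂ * e₁ := by
      rw [he₁, he₂]
      calc s * d₁ * s⁻¹ * (s * d₂ * s⁻¹) = s * (d₁ * d₂) * s⁻¹ := by group
        _ = s * (d₂ * d₁) * s⁻¹ := by rw [k3]
        _ = _ := by group
    obtain ⟨c₁, hc₁⟩ : ∃ c : G, c = d₁ * e₁ := ⟨_, rfl⟩
    obtain ⟨c₂, hc₂⟩ : ∃ c : G, c = d₂ * e₂ := ⟨_, rfl⟩
    have f1 : s * c₁ = c₁ * s := by
      calc s * c₁ = (s * d₁ * s⁻¹) * (s * e₁ * s⁻¹) * s := by rw [hc₁]; group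
        _ = e₁ * d₁ * s := by rw [← he₁, r1']
        _ = c₁ * s := by rw [← k1, hc₁]
    have f2 : s * c₂ = c₂ * s := by
      calc s * c₂ = (s * d₂ * s⁻¹) * (s * e₂ * s⁻¹) * s := by rw [hc₂]; group
        _ = e₂ * d₂ * s := by rw [← he₂, r2']
        _ = c₂ * s := by rw [← k2, hc₂]
    have d1i : (d₁ : G)⁻¹ = d₁ := inv_eq_of_mul_eq_one_left q1
    have d2i : (d₂ : G)⁻¹ = d₂ := inv_eq_of_mul_eq_one_left q2
    have s1 : (d₁ * g₀) * z * (d₁ * g₀)⁻¹ = c₁ * s := by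
      calc (d₁ * g₀) * z * (d₁ * g₀)⁻¹ = d₁ * (g₀ * z * g₀⁻¹) * (d₁ : G)⁻¹ := by group
        _ = d₁ * s * d₁ := by rw [← hsdef, d1i]
        _ = d₁ * (s * d₁ * s⁻¹) * s := by group
        _ = c₁ * s := by rw [← he₁, hc₁]
    have s2 : (d₂ * g₀) * z * (d₂ * g₀)⁻¹ = c₂ * s := by
      calc (d₂ * g₀) * z * (d₂ * g₀)⁻¹ = d₂ * (g₀ * z * g₀⁻¹) * (d₂ : G)⁻¹ := by group
        _ = d₂ * s * d₂ := by rw [← hsdef, d2i]
        _ = d₂ * (s * d₂ * s⁻¹) * s := by group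
        _ = c₂ * s := by rw [← he₂, hc₂]
    have f3 : (d₁ : G) * c₂ = c₂ * d₁ := by
      calc (d₁ : G) * c₂ = (d₁ * d₂) * e₂ := by rw [hc₂]; group
        _ = d₂ * (d₁ * e₂) := by rw [k3]; group
        _ = d₂ * (e₂ * d₁) := by rw [k5]
        _ = _ := by rw [hc₂]; group
    have s3 : (d₁ * (d₂ * g₀)) * z * (d₁ * (d₂ * g₀))⁻¹ = c₁ * c₂ * s := by
      calc (d₁ * (d₂ * g₀)) * z * (d₁ * (d₂ * g₀))⁻¹ = d₁ * ((d₂ * g₀) * z * (d₂ * g₀)⁻¹) * (d₁ : G)⁻¹ := by
            group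
        _ = d₁ * (c₂ * s) * d₁ := by rw [s2, d1i]
        _ = (d₁ * c₂) * (s * d₁ * s⁻¹) * s := by group
        _ = c₂ * (d₁ * e₁) * s := by rw [f3, ← he₁]; group
        _ = c₂ * c₁ * s := by rw [hc₁]
        _ = c₁ * c₂ * s := by
          congr 1
          rw [hc₁]
          calc c₂ * (d₁ * e₁) = (c₂ * d₁) * e₁ := by group
            _ = d₁ * (c₂ * e₁) := by rw [← f3]; group
            _ = d₁ * (d₂ * (e₂ * e₁)) := by rw [hc₂]; group
            _ = d₁ * (d₂ * e₁ * e₂) := by rw [← k6]; group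
            _ = d₁ * e₁ * c₂ := by rw [k4, hc₂]; group
    have f4 : c₂ * c₁ = c₁ * c₂ := by
      have h1 : c₂ * c₁ * s = c₁ * c₂ * s := by
        rw [← s3]
        calc c₂ * c₁ * s = c₂ * (d₁ * e₁) * s := by rw [hc₁]
          _ = (d₁ * c₂) * (s * d₁ * s⁻¹) * s := by rw [f3, ← he₁]; group
          _ = d₁ * (c₂ * s) * d₁ := by group
          _ = d₁ * ((d₂ * g₀) * z * (d₂ * g₀)⁻¹) * (d₁ : G)⁻¹ := by rw [s2, d1i]
          _ = _ := by group
      exact mul_right_cancel h1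
    -- nontriviality
    have m1 : c₁ ≠ 1 := by
      intro h1
      have h2 : (d₁ : G) = e₁ := by
        calc (d₁ : G) = d₁ * (e₁ * e₁) := by rw [p1, mul_one]
          _ = d₁ * e₁ * e₁ := by group
          _ = e₁ := by rw [← hc₁, h1, one_mul]
      have h3 : cj h s hsz d₁ = d₁ := Subtype.ext (by
        show s * d₁ * s⁻¹ = d₁
        rw [← he₁, ← h2])
      rw [h3] at hd₁'
      exact h.cov.lift.nz _ hd₁ hd₁'
    have m2 : c₂ ≠ 1 := by
      intro h1
      have h2 : (d₂ : G) = e₂ := by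
        calc (d₂ : G) = d₂ * (e₂ * e₂) := by rw [p2, mul_one]
          _ = d₂ * e₂ * e₂ := by group
          _ = e₂ := by rw [← hc₂, h1, one_mul]
      have h3 : cj h s hsz d₂ = d₂ := Subtype.ext (by
        show s * d₂ * s⁻¹ = d₂
        rw [← he₂, ← h2])
      rw [h3] at hd₂'
      exact h.cov.lift.nz _ hd₂ hd₂'
    have m3 : c₁ * c₂ ≠ 1 := by
      intro h1
      have hc22 : c₂ * c₂ = 1 := by
        rw [hc₂]
        calc (d₂ : G) * e₂ * (d₂ * e₂) = d₂ * e₂ * (e₂ * d₂) := by rw [k2]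
          _ = d₂ * (e₂ * e₂) * d₂ := by group
          _ = 1 := by rw [p2, mul_one, q2]
      have h2 : c₁ = c₂ := by
        calc c₁ = c₁ * (c₂ * c₂) := by rw [hc22, mul_one]
          _ = c₁ * c₂ * c₂ := by group
          _ = c₂ := by rw [h1, one_mul]
      have h3 : d₁ * (cj h s hsz d₁ * ⟨z, h.zL⟩) = d₂ * (cj h s hsz d₂ * ⟨z, h.zL⟩) := Subtype.ext (by
        show (d₁ : G) * (s * d₁ * s⁻¹ * z) = d₂ * (s * d₂ * s⁻¹ * z)
        rw [← he₁, ← he₂, ← mul_assoc, ← mul_assoc, ← hc₁, ← hc₂, h2])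
      rcases CLev.uniq h.cov.lift hT hd₁ hd₁' hd₂ hd₂' n1 c1 c2 (by rw [h3]) with h4 | h4
      · exact htri.xw h4.symm
      · exact htri.yw h4.symm
    have ne_s : ∀ c : G, c ≠ 1 → c * s ≠ s := by
      intro c hc h1
      exact hc (mul_right_cancel (by rw [one_mul]; exact h1))
    have com_s : ∀ c : G, s * c = c * s → c * s * s = s * (c * s) := by
      intro c hc
      rw [← mul_assoc s, hc]
    refine no_three h hT hZ hO (g := g₀) (a := d₁ * g₀) (b := d₂ * g₀) (c := d₁ * (d₂ * g₀))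
      (Or.inr rfl) ?_ ?_ ?_ ?_ ?_ ?_ ?_
    · rw [s1, ← hsdef]; exact ne_s _ m1
    · rw [s2, ← hsdef]; exact ne_s _ m2
    · rw [s3, ← hsdef]; exact ne_s _ m3
    · rw [s1, ← hsdef]; exact com_s _ f1
    · rw [s2, ← hsdef]; exact com_s _ f2
    · rw [s3, ← hsdef]
      apply com_s
      rw [← mul_assoc, f1, mul_assoc, f2, mul_assoc]
    · rw [s1, s2, s3, ← hsdef]
      calc c₁ * s * (c₂ * s) = c₁ * (s * c₂) * s := by group
        _ = _ := by rw [f2]; group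
  · -- case (i)
    push Not at hno
    obtain ⟨d, hd, hdz⟩ := hno
    have hdz' : s * d * s⁻¹ = d * z := congrArg Subtype.val hdz
    have q : (d : G) * d = 1 := congrArg Subtype.val (h.cov.lift.sq d hd)
    have di : (d : G)⁻¹ = d := inv_eq_of_mul_eq_one_left q
    have hsz1 : (d * g₀) * z * (d * g₀)⁻¹ = z * s := by
      calc (d * g₀) * z * (d * g₀)⁻¹ = d * (g₀ * z * g₀⁻¹) * (d : G)⁻¹ := by group
        _ = d * s * d := by rw [← hsdef, di]
        _ = d * (s * d * s⁻¹) * s := by group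
        _ = (d * d) * z * s := by rw [hdz']; group
        _ = z * s := by rw [q, one_mul]
    obtain ⟨σ, hσ⟩ := hind (cj h s hsz) (cj_z h s hsz)
    have hσ2 : ∀ x, σ (σ x) = x := by
      intro x
      obtain ⟨y, rfl⟩ := h.cov.lift.ext.surj x
      rw [hσ, hσ, hα2]
    have hσne : ∃ x, σ x ≠ x := by
      by_contra hno2
      push Not at hno2
      -- `s` centralises `L` modulo `z`, hence `L`
      have h1 : ∀ x : L, cj h s hsz x = x ∨ cj h s hsz x = x * ⟨z, h.zL⟩ := by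
        intro x
        apply h.cov.lift.ext.map_eq.1
        rw [← hσ, hno2]
      have h2 : ∀ a b : L, cj h s hsz (a * b * a⁻¹ * b⁻¹) = a * b * a⁻¹ * b⁻¹ := by
        intro a b
        have hzc : ∀ c : L, ⟨z, h.zL⟩ * c = c * ⟨z, h.zL⟩ := fun c => (h.cov.lift.ext.comm c).symm
        obtain ⟨Z, hZdef⟩ : ∃ Z : L, Z = ⟨z, h.zL⟩ := ⟨_, rfl⟩
        rw [← hZdef] at h1 hzc
        have hZi : ∀ c : L, (c * Z)⁻¹ = c⁻¹ * Z⁻¹ := by
          intro c
          rw [← hzc, mul_inv_rev]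
        have hzi : ∀ c : L, Z⁻¹ * c = c * Z⁻¹ := by
          intro c
          have : Commute Z c := hzc c
          exact this.inv_left.eq
        rw [map_mul, map_mul, map_mul, map_inv, map_inv]
        rcases h1 a with ha | ha <;> rcases h1 b with hb | hb <;> rw [ha, hb]
        · rw [hZi]
          calc a * (b * Z) * a⁻¹ * (b⁻¹ * Z⁻¹) = a * b * (Z * (a⁻¹ * b⁻¹)) * Z⁻¹ := by group
            _ = a * b * (a⁻¹ * b⁻¹ * Z) * Z⁻¹ := by rw [hzc]
            _ = _ := by group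
        · rw [hZi]
          calc a * Z * b * (a⁻¹ * Z⁻¹) * b⁻¹ = a * (Z * (b * a⁻¹)) * Z⁻¹ * b⁻¹ := by group
            _ = a * (b * a⁻¹ * Z) * Z⁻¹ * b⁻¹ := by rw [hzc]
            _ = _ := by group
        · rw [hZi, hZi]
          calc a * Z * (b * Z) * (a⁻¹ * Z⁻¹) * (b⁻¹ * Z⁻¹) =
              a * (Z * b) * (Z * a⁻¹) * (Z⁻¹ * b⁻¹) * Z⁻¹ := by group
            _ = a * (b * Z) * (a⁻¹ * Z) * (b⁻¹ * Z⁻¹) * Z⁻¹ := by rw [hzc, hzc, hzi]
            _ = a * b * (Z * a⁻¹) * (Z * b⁻¹) * Z⁻¹ * Z⁻¹ := by group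
            _ = a * b * (a⁻¹ * Z) * (b⁻¹ * Z) * Z⁻¹ * Z⁻¹ := by rw [hzc, hzc]
            _ = a * b * a⁻¹ * (Z * b⁻¹) * Z⁻¹ := by group
            _ = a * b * a⁻¹ * (b⁻¹ * Z) * Z⁻¹ := by rw [hzc]
            _ = _ := by group
      have h3 : ∀ x : L, cj h s hsz x = x := by
        intro x
        have hx : x ∈ commutator L := by rw [h.cov.perf]; trivial
        rw [commutator_def] at hx
        refine Subgroup.closure_induction (p := fun x _ => cj h s hsz x = x) ?_ ?_ ?_ ?_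
          (Subgroup.commutator_def (⊤ : Subgroup L) ⊤ ▸ hx)
        · rintro _ ⟨a, -, b, -, rfl⟩
          rw [commutatorElement_def]
          exact h2 a b
        · exact map_one _
        · intro a b _ _ ha hb
          rw [map_mul, ha, hb]
        · intro a _ ha
          rw [map_inv, ha]
      have h4 := ho d hd
      rw [h3] at h4
      exact h.cov.lift.nz d hd h4
    obtain ⟨f, hf1, hf2⟩ := hI σ hσ2 hσne
    obtain ⟨l, rfl⟩ := h.cov.lift.ext.surj f
    obtain ⟨c, hcdef⟩ : ∃ c : L, c = l * (cj h s hsz l)⁻¹ := ⟨_, rfl⟩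
    have hπc : φ l * (σ (φ l))⁻¹ = φ c := by rw [hσ, hcdef, map_mul, map_inv]
    rw [hπc] at hf1 hf2
    have hcc : c * c = 1 := by
      rcases (h.cov.lift.ext.ker (c * c)).1 (by rw [map_mul]; exact hf2) with h1 | h1
      · exact h1
      · exact absurd h1 (h.cov.hns c)
    have hccG : (c : G) * c = 1 := congrArg Subtype.val hcc
    have hc1 : (c : G) ≠ 1 := fun e => hf1 (by
      have : c = 1 := Subtype.ext e
      rw [this, map_one])
    have hcz : (c : G) ≠ z := fun e => hf1 (by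
      have : c = ⟨z, h.zL⟩ := Subtype.ext e
      rw [this, h.cov.lift.ext.mapz])
    have hcG : (c : G) = l * (s * (l : G)⁻¹ * s⁻¹) := by
      rw [hcdef]
      show (l : G) * (s * l * s⁻¹)⁻¹ = _
      group
    have hl1 : (l * g₀) * z * (l * g₀)⁻¹ = c * s := by
      calc (l * g₀) * z * (l * g₀)⁻¹ = l * (g₀ * z * g₀⁻¹) * (l : G)⁻¹ := by group
        _ = l * s * (l : G)⁻¹ := by rw [← hsdef]
        _ = l * (s * (l : G)⁻¹ * s⁻¹) * s := by group
        _ = c * s := by rw [← hcG]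
    have hcs2 : (c : G) * s * (c * s) = 1 := by
      rw [← hl1]
      calc (l * g₀) * z * (l * g₀)⁻¹ * ((l * g₀) * z * (l * g₀)⁻¹) = (l * g₀) * (z * z) * (l * g₀)⁻¹ := by
            group
        _ = 1 := by rw [hz2]; group
    have hcs : s * c = c * s := by
      calc s * c = (c * c) * s * c * (s * s) := by rw [hccG, hss]; group
        _ = c * ((c : G) * s * (c * s)) * s := by group
        _ = c * s := by rw [hcs2, mul_one]
    have hzc : (c : G) * z = z * c := zL h c c.2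
    refine no_three h hT hZ hO (g := l * g₀) (a := 1) (b := g₀) (c := d * g₀)
      (Or.inl rfl) ?_ ?_ ?_ ?_ ?_ ?_ ?_
    · rw [hl1, one_mul, inv_one, mul_one]
      intro h1
      apply hsL
      have : s = (c : G) * z := by
        rw [h1, ← mul_assoc, hccG, one_mul]
      rw [this]
      exact L.mul_mem c.2 h.zL
    · rw [hl1, ← hsdef]
      intro h1
      exact hc1 (mul_right_cancel (by rw [one_mul]; exact h1.symm))
    · rw [hl1, hsz1]
      intro h1
      exact hcz (mul_right_cancel h1.symm)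
    · rw [hl1, one_mul, inv_one, mul_one]
      calc z * (c * s) = (z * c) * s := by group
        _ = c * (z * s) := by rw [← hzc]; group
        _ = c * s * z := by rw [← hsz]; group
    · rw [hl1, ← hsdef]
      rw [← mul_assoc, hcs]
    · rw [hl1, hsz1]
      calc z * s * (c * s) = z * (s * c) * s := by group
        _ = z * (c * s) * s := by rw [hcs]
        _ = (z * c) * s * s := by group
        _ = c * (z * s) * s := by rw [← hzc]; group
        _ = c * (s * z) * s := by rw [hsz]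
        _ = _ := by group
    · rw [hsz1, ← hsdef]
      group

end red

end Cfsg.Agent.StdFi22.GLev
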