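import Mathlib

/-!
# The end of the reduction of S1735: `C_G(L) = ⟨z⟩`
-/

set_option autoImplicit false

namespace Cfsg.Agent.StdFi22.KEnd

theorem kend {G : Type*} [Group G] [Finite G] (K : Subgroup G) (z : G) (hz : z ∈ K)
    (hzz : z * z = 1) (hz1 : z ≠ 1) (hzc : ∀ k ∈ K, k * z = z * k)
    (hu : ∀ v ∈ K, v * v = 1 → v = 1 ∨ v = z) (hsq : ∀ y ∈ K, y * y ≠ z)
    (hcore : ∀ N : Subgroup G, N ≤ K →
      (∀ g : G, (∀ k ∈ K, g * k * g⁻¹ ∈ K) → ∀ n ∈ N, g * n * g⁻¹ ∈ N) →
      Odd (Nat.card N) → N = ⊥) :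
    ∀ k ∈ K, k = 1 ∨ k = z := by
  classical
  set zz : K := ⟨z, hz⟩ with hzzdef
  have hzzo : orderOf zz = 2 := by
    refine orderOf_eq_prime ?_ ?_
    · rw [pow_two]; exact Subtype.ext hzz
    · intro h; exact hz1 (congrArg Subtype.val h)
  let Z : Subgroup K := Subgroup.zpowers zz
  have hZc : Nat.card Z = 2 := by
    rw [Nat.card_zpowers, hzzo]
  have hcen : ∀ k : K, k * zz = zz * k := fun k => Subtype.ext (hzc k.1 k.2)
  have hZmem : ∀ x : K, x ∈ Z ↔ x = 1 ∨ x = zz := by
    intro x
    constructor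
    · intro hx
      obtain ⟨n, hn⟩ := Subgroup.mem_zpowers_iff.1 hx
      rcases Int.even_or_odd' n with ⟨m, hm | hm⟩
      · left
        rw [← hn, hm, zpow_mul]
        have : zz ^ (2 : ℤ) = 1 := by
          have := pow_orderOf_eq_one zz
          rw [hzzo] at this
          exact_mod_cast this
        rw [this, one_zpow]
      · right
        rw [← hn, hm, zpow_add, zpow_mul, zpow_one]
        have : zz ^ (2 : ℤ) = 1 := by
          have := pow_orderOf_eq_one zz
          rw [hzzo] at this
          exact_mod_cast this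
        rw [this, one_zpow, one_mul]
    · rintro (h | h)
      · rw [h]; exact one_mem _
      · rw [h]; exact Subgroup.mem_zpowers zz
  have hZn : Z.Normal := by
    constructor
    intro n hn g
    rcases (hZmem n).1 hn with h | h
    · rw [h]; simp
    · rw [h, hcen g, mul_inv_cancel_right]
      exact Subgroup.mem_zpowers zz
  -- the index is odd
  have hodd : Odd Z.index := by
    rw [← Nat.not_even_iff_odd]
    intro hev
    have h2 : (2 : ℕ) ∣ Nat.card (K ⧸ Z) := by
      rw [← Subgroup.index_eq_card]; exact hev.two_dvd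
    obtain ⟨x, hx⟩ := exists_prime_orderOf_dvd_card' 2 h2
    obtain ⟨y, rfl⟩ := QuotientGroup.mk_surjective x
    have hy2 : y * y ∈ Z := by
      have h1 : ((y : K ⧸ Z)) ^ 2 = 1 := by rw [← hx]; exact pow_orderOf_eq_one _
      rw [pow_two, ← QuotientGroup.mk_mul] at h1
      exact (QuotientGroup.eq_one_iff _).1 h1
    have hyZ : y ∉ Z := by
      intro h
      have h1 : ((y : K ⧸ Z)) = 1 := (QuotientGroup.eq_one_iff _).2 h
      rw [h1, orderOf_one] at hx
      omega
    rcases (hZmem _).1 hy2 with h | h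
    · rcases hu y.1 y.2 (by simpa using congrArg Subtype.val h) with h' | h'
      · exact hyZ ((hZmem y).2 (Or.inl (Subtype.ext h')))
      · exact hyZ ((hZmem y).2 (Or.inr (Subtype.ext h')))
    · exact hsq y.1 y.2 (by simpa using congrArg Subtype.val h)
  have hcop : Nat.Coprime (Nat.card Z) Z.index := by
    rw [hZc]; exact (Nat.coprime_two_left).2 hodd
  obtain ⟨H, hH⟩ := Subgroup.exists_right_complement'_of_coprime hcop
  have hHcard : Nat.card H = Z.index := hH.symm.card_left.symm ▸ rfl
  set m := Z.index with hm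
  have hdec : ∀ k : K, k ∈ H ∨ ∃ h ∈ H, k = zz * h := by
    intro k
    obtain ⟨⟨a, b⟩, hab⟩ := hH.2 k
    simp only at hab
    rcases (hZmem a.1).1 a.2 with h | h
    · left
      rw [← hab, h, one_mul]; exact b.2
    · right
      exact ⟨b.1, b.2, by rw [← hab, h]⟩
  have hpow : ∀ k : K, k ∈ H ↔ k ^ m = 1 := by
    intro k
    constructor
    · intro hk
      have := pow_card_eq_one' (x := (⟨k, hk⟩ : H))
      rw [hHcard] at this
      exact congrArg Subtype.val this
    · intro hk
      rcases hdec k with h | ⟨h, hh, rfl⟩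
      · exact h
      · exfalso
        have h1 : h ^ m = 1 := by
          have := pow_card_eq_one' (x := (⟨h, hh⟩ : H))
          rw [hHcard] at this
          exact congrArg Subtype.val this
        have h2 : (zz * h) ^ m = zz ^ m * h ^ m := (show Commute zz h from (hcen h).symm).mul_pow m
        rw [h2, h1, mul_one] at hk
        have := orderOf_dvd_of_pow_eq_one hk
        rw [hzzo] at this
        exact (Nat.not_even_iff_odd.2 hodd) (even_iff_two_dvd.2 this)
  have hN : H.map K.subtype = ⊥ := by
    apply hcore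
    · rintro _ ⟨x, _, rfl⟩; exact x.2
    · rintro g hg _ ⟨x, hx, rfl⟩
      refine ⟨⟨g * x.1 * g⁻¹, hg _ x.2⟩, ?_, rfl⟩
      rw [SetLike.mem_coe, hpow]
      apply Subtype.ext
      have h1 := (hpow x).1 hx
      have h2 : x.1 ^ m = 1 := congrArg Subtype.val h1
      simp only [SubmonoidClass.mk_pow, OneMemClass.coe_one]
      rw [conj_pow, h2]
      simp
    · rw [Subgroup.card_map_of_injective (Subgroup.subtype_injective K), hHcard]
      exact hodd
  have hHb : ∀ h ∈ H, h = 1 := by
    intro h hh
    have : K.subtype h ∈ H.map K.subtype := ⟨h, hh, rfl⟩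
    rw [hN, Subgroup.mem_bot] at this
    exact Subtype.ext this
  intro k hk
  rcases hdec ⟨k, hk⟩ with h | ⟨h, hh, he⟩
  · left
    exact congrArg Subtype.val (hHb _ h)
  · right
    rw [hHb h hh, mul_one] at he
    exact congrArg Subtype.val he

end Cfsg.Agent.StdFi22.KEnd
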