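import Cfsg.Agent.StdFi22.GEnd
import Cfsg.Agent.StdFi22.KEnd

/-!
# The reduction of S1735, generic form
-/

set_option autoImplicit false
set_option linter.unusedSectionVars false

namespace Cfsg.Agent.StdFi22.Main

open Cfsg Cfsg.Agent.R01.Lifts Cfsg.Agent.R01.FiFusion Cfsg.Agent.R01.FiFacts Cfsg.Agent.R01.FiHexad
open Cfsg.Agent.StdFi22.GLev

/-- The automorphism of the quotient induced by an automorphism of the double cover. -/
theorem exists_induced {C P : Type*} [Group C] [Group P] {π : C →* P} {z : C} (h : Ext π z)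
    (α : C ≃* C) (hα : α z = z) : ∃ β : P ≃* P, ∀ c, β (π c) = π (α c) := by
  have hker : ∀ c, π c = 1 ↔ π (α c) = 1 := by
    intro c
    rw [h.ker, h.ker, ← α.injective.eq_iff (a := c) (b := 1),
      ← α.injective.eq_iff (a := c) (b := z), hα, map_one]
  have key : ∀ (α : C ≃* C), (∀ c, π c = 1 ↔ π (α c) = 1) → ∀ a b, π a = π b →
      π (α a) = π (α b) := by
    intro α hα a b hab
    have h1 : π (b⁻¹ * a) = 1 := by rw [map_mul, map_inv, hab, inv_mul_cancel]
    rw [hα, map_mul, map_mul, map_inv, map_inv] at h1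
    exact (inv_mul_eq_one.1 h1).symm
  have hker' : ∀ c, π c = 1 ↔ π (α.symm c) = 1 := by
    intro c
    rw [hker (α.symm c), α.apply_symm_apply]
  choose σ hσ using h.surj
  refine ⟨{ toFun := fun x => π (α (σ x)), invFun := fun x => π (α.symm (σ x)),
            left_inv := ?_, right_inv := ?_, map_mul' := ?_ }, ?_⟩
  · intro x
    show π (α.symm (σ (π (α (σ x))))) = x
    rw [key α.symm hker' _ (α (σ x)) (hσ _), α.symm_apply_apply, hσ]
  · intro x
    show π (α (σ (π (α.symm (σ x))))) = x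
    rw [key α hker _ (α.symm (σ x)) (hσ _), α.apply_symm_apply, hσ]
  · intro x y
    show π (α (σ (x * y))) = π (α (σ x)) * π (α (σ y))
    rw [← map_mul, ← map_mul]
    exact key α hker _ _ (by rw [hσ, map_mul, hσ, hσ])
  · intro c
    exact key α hker _ _ (hσ _)

variable {G P : Type*} [Group G] [Group P] {z : G} {L : Subgroup G} {φ : L →* P} {T : Set P}
  {D : Set L}

/-- **The reduction of S1735.** -/
theorem red [Finite G] (h : Red z L φ T D) (hT : TP T)
    (hZ : ∀ f : P, (∀ x, f * x = x * f) → f = 1)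
    (hI : ∀ σ : P ≃* P, (∀ x, σ (σ x) = x) → (∃ x, σ x ≠ x) →
      ∃ f : P, f * (σ f)⁻¹ ≠ 1 ∧ f * (σ f)⁻¹ * (f * (σ f)⁻¹) = 1) :
    (∀ k : G, (∀ l ∈ L, k * l = l * k) → k = 1 ∨ k = z) ∧
    (∀ a b : G, a * z = z * a → b * z = z * b → a ∉ L → b ∉ L → a * b ∈ L) ∧
    ∃ g : G, g * z * g⁻¹ ∈ L ∧ g * z * g⁻¹ ≠ z := by
  obtain ⟨g, hgL, hgz⟩ := fused h hT hZ hI fun α hα => exists_induced h.cov.lift.ext α hα
  have hu : ∀ v : G, (∀ l ∈ L, v * l = l * v) → v * v = 1 → v = 1 ∨ v = z := by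
    intro v hv hvv
    by_contra hcon
    push Not at hcon
    exact r1 h hT hZ hgz (zL h _ hgL) hv hvv hcon.1 hcon.2 (hv _ hgL)
  have mem_cent : ∀ k : G, k ∈ Subgroup.centralizer (L : Set G) ↔ ∀ l ∈ L, k * l = l * k := by
    intro k
    rw [Subgroup.mem_centralizer_iff]
    exact ⟨fun h1 l hl => (h1 l hl).symm, fun h1 l hl => (h1 l hl).symm⟩
  have o1 : ∀ k : G, (∀ l ∈ L, k * l = l * k) → k = 1 ∨ k = z := by
    intro k hk
    refine KEnd.kend (Subgroup.centralizer (L : Set G)) z ?_ (zz h) (zne h) ?_ ?_ ?_ ?_ k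
      ((mem_cent k).2 hk)
    · exact (mem_cent z).2 fun l hl => (zL h l hl).symm
    · intro k hk
      exact (mem_cent k).1 hk z h.zL
    · intro v hv hvv
      exact hu v ((mem_cent v).1 hv) hvv
    · intro y hy
      exact no_root h hT hZ hgL hgz hu ((mem_cent y).1 hy)
    · intro N hN hNn hodd
      refine h.core N (fun n hn => (mem_cent n).1 (hN hn) z h.zL) ?_ hodd
      intro a ha n hn
      refine hNn a ?_ n hn
      intro k hk
      rw [mem_cent] at hk ⊢
      intro l hl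
      have h1 := h.norm a⁻¹ (conj_inv_comm ha) l hl
      have h2 := hk _ h1
      calc a * k * a⁻¹ * l = a * (k * (a⁻¹ * l * a⁻¹⁻¹)) * a⁻¹ := by group
        _ = a * (a⁻¹ * l * a⁻¹⁻¹ * k) * a⁻¹ := by rw [h2]
        _ = _ := by group
  have hev : ∀ a : G, a * z = z * a → Ev D a → a ∈ L := by
    intro a ha he
    obtain ⟨l, hl, k, hk, rfl⟩ := ev_inner h ha he
    rcases o1 k hk with rfl | rfl
    · rw [mul_one]; exact hl
    · exact L.mul_mem hl h.zL
  refine ⟨o1, ?_, g, hgL, hgz⟩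
  intro a b ha hb haL hbL
  have oa : Od z D a := (ev_or_od h ha).resolve_left fun he => haL (hev a ha he)
  have ob : Od z D b := (ev_or_od h hb).resolve_left fun he => hbL (hev b hb he)
  refine hev _ ?_ (Od.mul h ha oa ob)
  rw [mul_assoc, hb, ← mul_assoc, ha, mul_assoc]

end Cfsg.Agent.StdFi22.Main
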