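import Cfsg.Agent.R01.FiLocal

/-!
# Square roots of involutions of `Fi22` centralising a maximal set of commuting transpositions

`rigid_at`: if `h` nearly centralises the transpositions commuting with a frame of the labelling at `q` then
`h ^ 2` is `1` or `q`.
-/

set_option autoImplicit false
set_option linter.unusedSectionVars false

namespace Cfsg.Agent.StdFi22.Rigid

open Cfsg Cfsg.Agent.LieClassical.HermBasic Cfsg.Agent.ClassicalGeometry.UnitTransv
open Cfsg.Agent.SporadicStructure.UnitTwo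
open Cfsg.Agent.R01.Lifts Cfsg.Agent.R01.PSUSix Cfsg.Agent.R01.Label Cfsg.Agent.R01.InvForm
open Cfsg.Agent.R01 Cfsg.Agent.R01.Start
open Cfsg.Agent.ClassicalGeometry.UnitAutBasic (tau pr pr_surjective pr_eq_of_scalar)

variable {P : Type*} [Group P] {F : Type*} [Field F] [Fintype F] {hF : Fintype.card F = 2 ^ 2}
  {T : Set P} {q : P} {π : Subgroup.centralizer ({q} : Set P) →* PSU 6 F 2}
  {lift : (Fin 6 → F) → Subgroup.centralizer ({q} : Set P)}

/-- A nonzero combination. -/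
theorem comb_ne {u v w : Fin 6 → F} (h : Fr3 u v w) {a b c : F} (hne : a ≠ 0 ∨ b ≠ 0 ∨ c ≠ 0) :
    a • u + b • v + c • w ≠ 0 := by
  intro h0
  obtain ⟨h1, h2, h3⟩ := h.ind a b c h0
  rcases hne with h4 | h4 | h4
  · exact h4 h1
  · exact h4 h2
  · exact h4 h3

section line

variable (L : Lab hF π (zel q) (zel q) lift)
include L

/-- Two independent orthogonal isotropic vectors. -/
theorem line_q {a b : Fin 6 → F} (ha : hermForm 6 F 2 a a = 0) (hb : hermForm 6 F 2 b b = 0)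
    (hab : hermForm 6 F 2 a b = 0) (hne : ∀ s t : F, s • a + t • b = 0 → s = 0 ∧ t = 0) {h : P}
    (hq : h * q ≠ q * h) : ∃ s t : F, (s ≠ 0 ∨ t ≠ 0) ∧
      h * (lift (s • a + t • b) : P) ≠ (lift (s • a + t • b) : P) * h := by
  obtain ⟨ω, hω⟩ := exists_omega hF
  have ha0 : a ≠ 0 := by
    rintro rfl
    exact one_ne_zero (hne 1 0 (by simp)).1
  have hb0 : b ≠ 0 := by
    rintro rfl
    exact one_ne_zero (hne 0 1 (by simp)).2
  have hnc : ¬ ∃ c : F, b = c • a := by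
    rintro ⟨c, rfl⟩
    have := (hne (-c) 1 (by rw [one_smul, neg_smul, neg_add_cancel])).2
    exact one_ne_zero this
  have hline := L.line a b ha0 hb0 ha hb hab hnc ω hω
  have hline' : (lift a : P) * lift b * lift (a + b) * lift (ω • a + b) * lift (ω ^ 2 • a + b) = q :=
    congrArg Subtype.val hline
  by_contra hcon
  push Not at hcon
  have e1 : a = (1 : F) • a + (0 : F) • b := by module
  have e2 : b = (0 : F) • a + (1 : F) • b := by module
  have e3 : a + b = (1 : F) • a + (1 : F) • b := by module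
  have e4 : ω • a + b = ω • a + (1 : F) • b := by module
  have e5 : ω ^ 2 • a + b = ω ^ 2 • a + (1 : F) • b := by module
  have c1 : Commute h (lift a : P) := by
    have := hcon 1 0 (Or.inl one_ne_zero)
    rwa [← e1] at this
  have c2 : Commute h (lift b : P) := by
    have := hcon 0 1 (Or.inr one_ne_zero)
    rwa [← e2] at this
  have c3 : Commute h (lift (a + b) : P) := by
    have := hcon 1 1 (Or.inr one_ne_zero)
    rwa [← e3] at this
  have c4 : Commute h (lift (ω • a + b) : P) := by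
    have := hcon ω 1 (Or.inr one_ne_zero)
    rwa [← e4] at this
  have c5 : Commute h (lift (ω ^ 2 • a + b) : P) := by
    have := hcon (ω ^ 2) 1 (Or.inr one_ne_zero)
    rwa [← e5] at this
  apply hq
  rw [← hline']
  exact ((((c1.mul_right c2).mul_right c3).mul_right c4).mul_right c5).eq

/-- The same for a point of the line. -/
theorem line_a {a b : Fin 6 → F} (ha : hermForm 6 F 2 a a = 0) (hb : hermForm 6 F 2 b b = 0)
    (hab : hermForm 6 F 2 a b = 0) (hne : ∀ s t : F, s • a + t • b = 0 → s = 0 ∧ t = 0) {h : P}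
    (hq : h * q = q * h) (hna : h * (lift a : P) ≠ (lift a : P) * h) :
    ∃ s : F, h * (lift (s • a + b) : P) ≠ (lift (s • a + b) : P) * h := by
  obtain ⟨ω, hω⟩ := exists_omega hF
  have ha0 : a ≠ 0 := by
    rintro rfl
    exact one_ne_zero (hne 1 0 (by simp)).1
  have hb0 : b ≠ 0 := by
    rintro rfl
    exact one_ne_zero (hne 0 1 (by simp)).2
  have hnc : ¬ ∃ c : F, b = c • a := by
    rintro ⟨c, rfl⟩
    have := (hne (-c) 1 (by rw [one_smul, neg_smul, neg_add_cancel])).2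
    exact one_ne_zero this
  have hline := L.line a b ha0 hb0 ha hb hab hnc ω hω
  have hline' : (lift a : P) * lift b * lift (a + b) * lift (ω • a + b) * lift (ω ^ 2 • a + b) = q :=
    congrArg Subtype.val hline
  by_contra hcon
  push Not at hcon
  have e2 : b = (0 : F) • a + b := by module
  have e3 : a + b = (1 : F) • a + b := by module
  have c2 : Commute h (lift b : P) := by
    have := hcon 0
    rwa [← e2] at this
  have c3 : Commute h (lift (a + b) : P) := by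
    have := hcon 1
    rwa [← e3] at this
  have c4 : Commute h (lift (ω • a + b) : P) := hcon ω
  have c5 : Commute h (lift (ω ^ 2 • a + b) : P) := hcon (ω ^ 2)
  apply hna
  have h1 : (lift a : P) = q * ((lift b : P) * lift (a + b) * lift (ω • a + b) *
      lift (ω ^ 2 • a + b))⁻¹ := by
    apply eq_mul_inv_of_mul_eq
    refine Eq.trans ?_ hline'
    group
  rw [h1]
  exact (Commute.mul_right (show Commute h q from hq)
    (((c2.mul_right c3).mul_right c4).mul_right c5).inv_right).eq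

end line

/-- **Rigidity** at `q`. -/
theorem rigid_at (L : Lab hF π (zel q) (zel q) lift) (hqT : q ∈ T)
    (hiff : ∀ x : Subgroup.centralizer ({q} : Set P), (x : P) ∈ T ↔ x = zel q ∨ x ∈ Dset lift)
    {u v w : Fin 6 → F} (hf : Fr3 u v w) {h : P}
    (hS : ∀ t₁ ∈ T, ∀ t₂ ∈ T, t₁ ≠ t₂ → t₁ * t₂ = t₂ * t₁ →
      t₁ * (lift u : P) = (lift u : P) * t₁ → t₁ * (lift v : P) = (lift v : P) * t₁ →
      t₁ * (lift w : P) = (lift w : P) * t₁ → t₂ * (lift u : P) = (lift u : P) * t₂ →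
      t₂ * (lift v : P) = (lift v : P) * t₂ → t₂ * (lift w : P) = (lift w : P) * t₂ →
      h * t₁ ≠ t₁ * h → h * t₂ ≠ t₂ * h → h * t₁ * h⁻¹ = t₂) :
    h * h = 1 ∨ h * h = q := by
  have zcom : ∀ x : Subgroup.centralizer ({q} : Set P), q * (x : P) = (x : P) * q :=
    fun x => AllOfLab.zel_comm x
  have mem : ∀ x : Fin 6 → F, x ≠ 0 → hermForm 6 F 2 x x = 0 → (lift x : P) ∈ T :=
    fun x h0 hx => (hiff _).2 (Or.inr (Lab.mem_D h0 hx))
  have neq : ∀ x : Fin 6 → F, x ≠ 0 → hermForm 6 F 2 x x = 0 → q ≠ (lift x : P) := by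
    intro x h0 hx h1
    have h2 : zel q = lift x := Subtype.ext h1
    apply L.z_notMem
    rw [h2]
    exact Lab.mem_D h0 hx
  have com : ∀ x y : Fin 6 → F, x ≠ 0 → y ≠ 0 → hermForm 6 F 2 x x = 0 → hermForm 6 F 2 y y = 0 →
      hermForm 6 F 2 x y = 0 → (lift x : P) * lift y = (lift y : P) * lift x :=
    fun x y hx0 hy0 hx hy hxy => AllOfLab.comm_coe.1 ((L.commute_iff hx hy hx0 hy0).2 hxy)
  -- combinations of the frame
  have hcomb := fun a b c a' b' c' => AllOfLab.Fr3.comb hF hf a b c a' b' c'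
  have e1 : u = (1 : F) • u + (0 : F) • v + (0 : F) • w := by module
  have e2 : v = (0 : F) • u + (1 : F) • v + (0 : F) • w := by module
  have e3 : w = (0 : F) • u + (0 : F) • v + (1 : F) • w := by module
  have key : ∀ t₁ ∈ T, ∀ t₂ ∈ T, t₁ ≠ t₂ →
      (t₁ = q ∨ ∃ a b c : F, (a ≠ 0 ∨ b ≠ 0 ∨ c ≠ 0) ∧ t₁ = lift (a • u + b • v + c • w)) →
      (t₂ = q ∨ ∃ a b c : F, (a ≠ 0 ∨ b ≠ 0 ∨ c ≠ 0) ∧ t₂ = lift (a • u + b • v + c • w)) →
      h * t₁ ≠ t₁ * h → h * t₂ ≠ t₂ * h → h * t₁ * h⁻¹ = t₂ := by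
    have hc3 : ∀ t : P, (t = q ∨ ∃ a b c : F, (a ≠ 0 ∨ b ≠ 0 ∨ c ≠ 0) ∧
        t = lift (a • u + b • v + c • w)) → ∀ a b c : F, (a ≠ 0 ∨ b ≠ 0 ∨ c ≠ 0) →
        t * (lift (a • u + b • v + c • w) : P) = (lift (a • u + b • v + c • w) : P) * t := by
      rintro t (rfl | ⟨a, b, c, h0, rfl⟩) a' b' c' h0'
      · exact zcom _
      · exact com _ _ (comb_ne hf h0) (comb_ne hf h0') (hcomb _ _ _ _ _ _) (hcomb _ _ _ _ _ _)
          (hcomb _ _ _ _ _ _)
    have hu : ∀ t : P, (t = q ∨ ∃ a b c : F, (a ≠ 0 ∨ b ≠ 0 ∨ c ≠ 0) ∧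
        t = lift (a • u + b • v + c • w)) → t * (lift u : P) = (lift u : P) * t := by
      intro t ht
      have := hc3 t ht 1 0 0 (Or.inl one_ne_zero)
      rwa [← e1] at this
    have hv : ∀ t : P, (t = q ∨ ∃ a b c : F, (a ≠ 0 ∨ b ≠ 0 ∨ c ≠ 0) ∧
        t = lift (a • u + b • v + c • w)) → t * (lift v : P) = (lift v : P) * t := by
      intro t ht
      have := hc3 t ht 0 1 0 (Or.inr (Or.inl one_ne_zero))
      rwa [← e2] at this
    have hw : ∀ t : P, (t = q ∨ ∃ a b c : F, (a ≠ 0 ∨ b ≠ 0 ∨ c ≠ 0) ∧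
        t = lift (a • u + b • v + c • w)) → t * (lift w : P) = (lift w : P) * t := by
      intro t ht
      have := hc3 t ht 0 0 1 (Or.inr (Or.inr one_ne_zero))
      rwa [← e3] at this
    intro t₁ h1 t₂ h2 hne h3 h4
    refine hS t₁ h1 t₂ h2 hne ?_ (hu _ h3) (hv _ h3) (hw _ h3) (hu _ h4) (hv _ h4) (hw _ h4)
    rcases h4 with rfl | ⟨a, b, c, h0, rfl⟩
    · rcases h3 with rfl | ⟨a, b, c, h0, rfl⟩
      · rfl
      · exact (zcom _).symm
    · exact hc3 t₁ h3 a b c h0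
  have memc : ∀ a b c : F, (a ≠ 0 ∨ b ≠ 0 ∨ c ≠ 0) → (lift (a • u + b • v + c • w) : P) ∈ T :=
    fun a b c h0 => mem _ (comb_ne hf h0) (hcomb _ _ _ _ _ _)
  have eqi : ∀ a b c a' b' c' : F, (a ≠ 0 ∨ b ≠ 0 ∨ c ≠ 0) → (a' ≠ 0 ∨ b' ≠ 0 ∨ c' ≠ 0) →
      (lift (a • u + b • v + c • w) : P) = lift (a' • u + b' • v + c' • w) →
      ∃ k : F, k ≠ 0 ∧ a' = k * a ∧ b' = k * b ∧ c' = k * c := by
    intro a b c a' b' c' h0 h0' h1
    obtain ⟨k, hk, h2⟩ := (L.lift_eq_iff (hcomb _ _ _ _ _ _) (hcomb _ _ _ _ _ _) (comb_ne hf h0)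
      (comb_ne hf h0')).1 (Subtype.ext h1)
    obtain ⟨h3, h4, h5⟩ := hf.ind (a' - k * a) (b' - k * b) (c' - k * c) (by
      have : (a' - k * a) • u + (b' - k * b) • v + (c' - k * c) • w =
        (a' • u + b' • v + c' • w) - k • (a • u + b • v + c • w) := by module
      rw [this, h2, sub_self])
    exact ⟨k, hk, sub_eq_zero.1 h3, sub_eq_zero.1 h4, sub_eq_zero.1 h5⟩
  -- `h` commutes with `q`
  have hq : h * q = q * h := by
    by_contra hq
    have n1 : ∀ s t : F, s • u + t • v = 0 → s = 0 ∧ t = 0 := fun s t hst => by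
      have := hf.ind s t 0 (by rw [hst]; module)
      exact ⟨this.1, this.2.1⟩
    have n2 : ∀ s t : F, s • v + t • w = 0 → s = 0 ∧ t = 0 := fun s t hst => by
      have := hf.ind 0 s t (by rw [← hst]; module)
      exact ⟨this.2.1, this.2.2⟩
    have n3 : ∀ s t : F, s • u + t • w = 0 → s = 0 ∧ t = 0 := fun s t hst => by
      have := hf.ind s 0 t (by rw [← hst]; module)
      exact ⟨this.1, this.2.2⟩
    obtain ⟨s1, t1, h1, h1'⟩ := line_q L hf.uu hf.vv hf.uv n1 hq
    obtain ⟨s2, t2, h2, h2'⟩ := line_q L hf.vv hf.ww hf.vw n2 hq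
    obtain ⟨s3, t3, h3, h3'⟩ := line_q L hf.uu hf.ww hf.uw n3 hq
    have f1 : s1 • u + t1 • v = s1 • u + t1 • v + (0 : F) • w := by module
    have f2 : s2 • v + t2 • w = (0 : F) • u + s2 • v + t2 • w := by module
    have f3 : s3 • u + t3 • w = s3 • u + (0 : F) • v + t3 • w := by module
    rw [f1] at h1'
    rw [f2] at h2'
    rw [f3] at h3'
    have o1 : s1 ≠ 0 ∨ t1 ≠ 0 ∨ (0 : F) ≠ 0 := by tauto
    have o2 : (0 : F) ≠ 0 ∨ s2 ≠ 0 ∨ t2 ≠ 0 := by tauto
    have o3 : s3 ≠ 0 ∨ (0 : F) ≠ 0 ∨ t3 ≠ 0 := by tauto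
    have g1 := key q hqT _ (memc s1 t1 0 o1) (neq _ (comb_ne hf o1) (hcomb _ _ _ _ _ _))
      (Or.inl rfl) (Or.inr ⟨_, _, _, o1, rfl⟩) hq h1'
    have g2 := key q hqT _ (memc 0 s2 t2 o2) (neq _ (comb_ne hf o2) (hcomb _ _ _ _ _ _))
      (Or.inl rfl) (Or.inr ⟨_, _, _, o2, rfl⟩) hq h2'
    have g3 := key q hqT _ (memc s3 0 t3 o3) (neq _ (comb_ne hf o3) (hcomb _ _ _ _ _ _))
      (Or.inl rfl) (Or.inr ⟨_, _, _, o3, rfl⟩) hq h3'
    obtain ⟨k, hk, k1, k2, k3⟩ := eqi s1 t1 0 0 s2 t2 o1 o2 (g1.symm.trans g2)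
    obtain ⟨k', hk', k1', k2', k3'⟩ := eqi s1 t1 0 s3 0 t3 o1 o3 (g1.symm.trans g3)
    have z1 : s1 = 0 := by
      rcases mul_eq_zero.1 k1.symm with h4 | h4
      · exact absurd h4 hk
      · exact h4
    have z2 : t1 = 0 := by
      rcases mul_eq_zero.1 k2'.symm with h4 | h4
      · exact absurd h4 hk'
      · exact h4
    rcases h1 with h4 | h4
    · exact h4 z1
    · exact h4 z2
  -- `h` commutes with the points of frames in the span
  have hA : ∀ a1 a2 a3 b1 b2 b3 c1 c2 c3 : F,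
      Fr3 (a1 • u + a2 • v + a3 • w) (b1 • u + b2 • v + b3 • w) (c1 • u + c2 • v + c3 • w) →
      h * (lift (a1 • u + a2 • v + a3 • w) : P) = (lift (a1 • u + a2 • v + a3 • w) : P) * h := by
    intro a1 a2 a3 b1 b2 b3 c1 c2 c3 hf'
    by_contra hna
    have nz : ∀ x y z : F, x • u + y • v + z • w ≠ 0 → x ≠ 0 ∨ y ≠ 0 ∨ z ≠ 0 := by
      intro x y z h0
      by_contra hcon
      push Not at hcon
      obtain ⟨rfl, rfl, rfl⟩ := hcon
      apply h0
      module
    have n1 : ∀ s t : F, s • (a1 • u + a2 • v + a3 • w) + t • (b1 • u + b2 • v + b3 • w) = 0 →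
        s = 0 ∧ t = 0 := fun s t hst => hf'.fr2.ind s t hst
    have n2 : ∀ s t : F, s • (a1 • u + a2 • v + a3 • w) + t • (c1 • u + c2 • v + c3 • w) = 0 →
        s = 0 ∧ t = 0 := fun s t hst => by
      have := hf'.ind s 0 t (by rw [← hst]; module)
      exact ⟨this.1, this.2.2⟩
    obtain ⟨s, hs⟩ := line_a L hf'.uu hf'.vv hf'.uv n1 hq hna
    obtain ⟨s', hs'⟩ := line_a L hf'.uu hf'.ww hf'.uw n2 hq hna
    have oa := nz _ _ _ hf'.u_ne
    have f1 : s • (a1 • u + a2 • v + a3 • w) + (b1 • u + b2 • v + b3 • w) =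
        (s * a1 + b1) • u + (s * a2 + b2) • v + (s * a3 + b3) • w := by module
    have f2 : s' • (a1 • u + a2 • v + a3 • w) + (c1 • u + c2 • v + c3 • w) =
        (s' * a1 + c1) • u + (s' * a2 + c2) • v + (s' * a3 + c3) • w := by module
    have o1 : s * a1 + b1 ≠ 0 ∨ s * a2 + b2 ≠ 0 ∨ s * a3 + b3 ≠ 0 := by
      apply nz
      rw [← f1]
      intro h0
      have := n1 s 1 (by rw [one_smul]; exact h0)
      exact one_ne_zero this.2
    have o2 : s' * a1 + c1 ≠ 0 ∨ s' * a2 + c2 ≠ 0 ∨ s' * a3 + c3 ≠ 0 := by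
      apply nz
      rw [← f2]
      intro h0
      have := n2 s' 1 (by rw [one_smul]; exact h0)
      exact one_ne_zero this.2
    have d1 : (lift (a1 • u + a2 • v + a3 • w) : P) ≠ lift ((s * a1 + b1) • u + (s * a2 + b2) • v +
        (s * a3 + b3) • w) := by
      intro h1
      have h2 : lift (a1 • u + a2 • v + a3 • w) = lift ((s * a1 + b1) • u + (s * a2 + b2) • v +
        (s * a3 + b3) • w) := Subtype.ext h1
      obtain ⟨k, hk, h3⟩ := (L.lift_eq_iff (hcomb _ _ _ _ _ _) (hcomb _ _ _ _ _ _)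
        (comb_ne hf oa) (comb_ne hf o1)).1 h2
      have := n1 (s - k) 1 (by
        have : (s - k) • (a1 • u + a2 • v + a3 • w) + (1 : F) • (b1 • u + b2 • v + b3 • w) =
          ((s * a1 + b1) • u + (s * a2 + b2) • v + (s * a3 + b3) • w) -
            k • (a1 • u + a2 • v + a3 • w) := by module
        rw [this, h3, sub_self])
      exact one_ne_zero this.2
    have d2 : (lift (a1 • u + a2 • v + a3 • w) : P) ≠ lift ((s' * a1 + c1) • u +
        (s' * a2 + c2) • v + (s' * a3 + c3) • w) := by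
      intro h1
      have h2 : lift (a1 • u + a2 • v + a3 • w) = lift ((s' * a1 + c1) • u + (s' * a2 + c2) • v +
        (s' * a3 + c3) • w) := Subtype.ext h1
      obtain ⟨k, hk, h3⟩ := (L.lift_eq_iff (hcomb _ _ _ _ _ _) (hcomb _ _ _ _ _ _)
        (comb_ne hf oa) (comb_ne hf o2)).1 h2
      have := n2 (s' - k) 1 (by
        have : (s' - k) • (a1 • u + a2 • v + a3 • w) + (1 : F) • (c1 • u + c2 • v + c3 • w) =
          ((s' * a1 + c1) • u + (s' * a2 + c2) • v + (s' * a3 + c3) • w) -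
            k • (a1 • u + a2 • v + a3 • w) := by module
        rw [this, h3, sub_self])
      exact one_ne_zero this.2
    rw [f1] at hs
    rw [f2] at hs'
    have g1 := key _ (memc _ _ _ oa) _ (memc _ _ _ o1) d1 (Or.inr ⟨_, _, _, oa, rfl⟩)
      (Or.inr ⟨_, _, _, o1, rfl⟩) hna hs
    have g2 := key _ (memc _ _ _ oa) _ (memc _ _ _ o2) d2 (Or.inr ⟨_, _, _, oa, rfl⟩)
      (Or.inr ⟨_, _, _, o2, rfl⟩) hna hs'
    have h2 := (L.lift_eq_iff (hcomb _ _ _ _ _ _) (hcomb _ _ _ _ _ _)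
        (comb_ne hf o1) (comb_ne hf o2)).1 (Subtype.ext (g1.symm.trans g2))
    obtain ⟨k, hk, h3⟩ := h2
    have h4 := hf'.ind (s' - k * s) (-k) 1 (by
      have : (s' - k * s) • (a1 • u + a2 • v + a3 • w) + (-k) • (b1 • u + b2 • v + b3 • w) +
          (1 : F) • (c1 • u + c2 • v + c3 • w) =
        ((s' * a1 + c1) • u + (s' * a2 + c2) • v + (s' * a3 + c3) • w) -
          k • ((s * a1 + b1) • u + (s * a2 + b2) • v + (s * a3 + b3) • w) := by module
      rw [this, h3, sub_self])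
    exact one_ne_zero h4.2.2
  -- the linear map
  obtain ⟨h', hh'⟩ : ∃ h' : Subgroup.centralizer ({q} : Set P), (h' : P) = h :=
    ⟨⟨h, Subgroup.mem_centralizer_singleton_iff.2 hq⟩, rfl⟩
  obtain ⟨A, hAπ⟩ := pr_surjective (π h')
  have eig : ∀ a b c : F, a • u + b • v + c • w ≠ 0 →
      h * (lift (a • u + b • v + c • w) : P) = (lift (a • u + b • v + c • w) : P) * h →
      ∃ k : F, k ≠ 0 ∧ act A (a • u + b • v + c • w) = k • (a • u + b • v + c • w) := by
    intro a b c h0 hc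
    have h1 := L.conj h' A (a • u + b • v + c • w) hAπ.symm h0 (hcomb _ _ _ _ _ _)
    have h2 : h' * lift (a • u + b • v + c • w) * h'⁻¹ = lift (a • u + b • v + c • w) := by
      apply Subtype.ext
      show (h' : P) * lift (a • u + b • v + c • w) * (h' : P)⁻¹ = lift (a • u + b • v + c • w)
      rw [hh', hc, mul_inv_cancel_right]
    rw [h2] at h1
    obtain ⟨k, hk, h3⟩ := (L.lift_eq_iff (hcomb _ _ _ _ _ _) (by rw [herm_act, hcomb])
      h0 (Lab.act_ne_zero h0)).1 h1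
    exact ⟨k, hk, h3⟩
  -- eigenvectors
  have f100 := hA 1 0 0 0 1 0 0 0 1 (by rw [← e1, ← e2, ← e3]; exact hf)
  have hf2 := hf.rot hF
  have hf3 := hf2.rot hF
  have f010 := hA 0 1 0 0 0 1 1 0 0 (by rw [← e1, ← e2, ← e3]; exact hf2)
  have f001 := hA 0 0 1 1 0 0 0 1 0 (by rw [← e1, ← e2, ← e3]; exact hf3)
  have f110 := hA 1 1 0 0 1 0 0 0 1 (by
    refine ⟨hcomb _ _ _ _ _ _, hcomb _ _ _ _ _ _, hcomb _ _ _ _ _ _, hcomb _ _ _ _ _ _,
      hcomb _ _ _ _ _ _, hcomb _ _ _ _ _ _, fun a b c habc => ?_⟩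
    obtain ⟨h1, h2, h3⟩ := hf.ind a (a + b) c (by rw [← habc]; module)
    exact ⟨h1, by rw [h1, zero_add] at h2; exact h2, h3⟩)
  have f011 := hA 0 1 1 0 0 1 1 0 0 (by
    refine ⟨hcomb _ _ _ _ _ _, hcomb _ _ _ _ _ _, hcomb _ _ _ _ _ _, hcomb _ _ _ _ _ _,
      hcomb _ _ _ _ _ _, hcomb _ _ _ _ _ _, fun a b c habc => ?_⟩
    obtain ⟨h1, h2, h3⟩ := hf.ind c a (a + b) (by rw [← habc]; module)
    exact ⟨h2, by rw [h2, zero_add] at h3; exact h3, h1⟩)
  have z : (1 : F) ≠ 0 := one_ne_zero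
  obtain ⟨ku, hku0, hku⟩ := eig 1 0 0 (comb_ne hf (Or.inl z)) f100
  obtain ⟨kv, hkv0, hkv⟩ := eig 0 1 0 (comb_ne hf (Or.inr (Or.inl z))) f010
  obtain ⟨kw, hkw0, hkw⟩ := eig 0 0 1 (comb_ne hf (Or.inr (Or.inr z))) f001
  obtain ⟨k1, hk10, hk1⟩ := eig 1 1 0 (comb_ne hf (Or.inl z)) f110
  obtain ⟨k2, hk20, hk2⟩ := eig 0 1 1 (comb_ne hf (Or.inr (Or.inl z))) f011
  rw [← e1] at hku
  rw [← e2] at hkv
  rw [← e3] at hkw
  have huv : ku = kv := by
    have h1 : act A ((1 : F) • u + (1 : F) • v + (0 : F) • w) = ku • u + kv • v := by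
      have : (1 : F) • u + (1 : F) • v + (0 : F) • w = u + v := by module
      rw [this, act_add, hku, hkv]
    rw [h1] at hk1
    obtain ⟨h2, h3, -⟩ := hf.ind (ku - k1) (kv - k1) 0 (by
      have : (ku - k1) • u + (kv - k1) • v + (0 : F) • w = (ku • u + kv • v) -
        k1 • ((1 : F) • u + (1 : F) • v + (0 : F) • w) := by module
      rw [this, hk1, sub_self])
    rw [sub_eq_zero.1 h2, sub_eq_zero.1 h3]
  have hvw : kv = kw := by
    have h1 : act A ((0 : F) • u + (1 : F) • v + (1 : F) • w) = kv • v + kw • w := by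
      have : (0 : F) • u + (1 : F) • v + (1 : F) • w = v + w := by module
      rw [this, act_add, hkv, hkw]
    rw [h1] at hk2
    obtain ⟨-, h2, h3⟩ := hf.ind 0 (kv - k2) (kw - k2) (by
      have : (0 : F) • u + (kv - k2) • v + (kw - k2) • w = (kv • v + kw • w) -
        k2 • ((0 : F) • u + (1 : F) • v + (1 : F) • w) := by module
      rw [this, hk2, sub_self])
    rw [sub_eq_zero.1 h2, sub_eq_zero.1 h3]
  rw [← hvw, ← huv] at hkw
  rw [← huv] at hkv
  have two := AllOfLab.two_eq_zero' hF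
  have k3 : ku ^ 3 = 1 := pow_three hF hku0
  have orth : ∀ x y : Fin 6 → F, act A y = ku • y →
      hermForm 6 F 2 (act A x + ku • x) y = 0 := by
    intro x y hy
    have h1 : hermForm 6 F 2 (act A x) (act A y) = hermForm 6 F 2 x y := by rw [herm_act]
    rw [hy, herm_smul_right] at h1
    rw [herm_add_left, herm_smul_left, ← h1]
    have h2 : ku * (ku ^ 2 * hermForm 6 F 2 (act A x) y) = hermForm 6 F 2 (act A x) y := by
      linear_combination hermForm 6 F 2 (act A x) y * k3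
    rw [h2, ← two_mul, two, zero_mul]
  have hsq : ∀ x : Fin 6 → F, act (A * A) x = (ku * ku) • act (1 : SU 6 F 2) x := by
    intro x
    rw [act_one, act_mul]
    obtain ⟨a, b, c, habc⟩ := mem_span_of_perp hF hf (orth x u hku) (orth x v hkv) (orth x w hkw)
    have h1 : act A (act A x + ku • x) = ku • (act A x + ku • x) := by
      rw [habc, act_add, act_add, act_smul, act_smul, act_smul, hku, hkv, hkw]
      module
    rw [act_add, act_smul] at h1
    have h3 : act A (act A x) = ku • (act A x + ku • x) - ku • act A x := by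
      rw [← h1]; module
    rw [h3]
    module
  have hp1 : π (h' * h') = 1 := by
    rw [map_mul, ← hAπ, ← map_mul, ← map_one (pr 6 F 2)]
    exact (pr_eq_of_scalar hsq).symm
  rcases (L.ext.ker _).1 hp1 with h1 | h1
  · left
    have := congrArg Subtype.val h1
    rw [← hh']
    exact this
  · right
    have := congrArg Subtype.val h1
    rw [← hh']
    exact this

end Cfsg.Agent.StdFi22.Rigid
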